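import Mathlib

/-!
# Relations of a regular sequence are trivial, and conversely
-/

set_option autoImplicit false

universe u

noncomputable section

namespace CotTLib

open Finsupp

variable {R : Type u} [CommRing R] {n : ℕ} (a : Fin n → R)

/-- The ideal of the first `k` elements. -/
def pre (k : ℕ) : Ideal R := Ideal.span (a '' {j | (j : ℕ) < k})

/-- Finitely supported functions on the first `k` indices. -/
def supp (k : ℕ) : Submodule R (Fin n →₀ R) := Finsupp.supported R R {j : Fin n | (j : ℕ) < k}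

/-- Trivial relations among the first `k` elements. -/
def triv (k : ℕ) : Submodule R (Fin n →₀ R) :=
  Submodule.span R {y | ∃ g ∈ supp (R := R) k, ∃ h ∈ supp (R := R) k,
    y = linearCombination R a g • h - linearCombination R a h • g}

lemma supp_mono {k l : ℕ} (h : k ≤ l) : (supp k : Submodule R (Fin n →₀ R)) ≤ supp l :=
  Finsupp.supported_mono fun j (hj : (j : ℕ) < k) => (lt_of_lt_of_le hj h : (j : ℕ) < l)

lemma supp_top : (supp n : Submodule R (Fin n →₀ R)) = ⊤ :=
  eq_top_iff.2 fun f _ => (Finsupp.mem_supported R f).2 fun j _ => j.2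

lemma triv_le_ker (k : ℕ) : triv a k ≤ LinearMap.ker (linearCombination R a) := by
  refine Submodule.span_le.2 ?_
  rintro _ ⟨g, -, h, -, rfl⟩
  simp [mul_comm]

lemma triv_mono {k l : ℕ} (h : k ≤ l) : triv a k ≤ triv a l := by
  refine Submodule.span_le.2 ?_
  rintro _ ⟨g, hg, g', hg', rfl⟩
  exact Submodule.subset_span ⟨g, supp_mono h hg, g', supp_mono h hg', rfl⟩

lemma mem_pre_iff (k : ℕ) (x : R) :
    x ∈ pre a k ↔ ∃ c ∈ supp (R := R) k, linearCombination R a c = x :=
  Finsupp.mem_span_image_iff_linearCombination R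

/-- Split off the coefficient at `k`. -/
lemma exists_split {k : ℕ} (hk : k < n) {f : Fin n →₀ R} (hf : f ∈ supp (k + 1)) :
    f - Finsupp.single ⟨k, hk⟩ (f ⟨k, hk⟩) ∈ supp k := by
  refine (Finsupp.mem_supported' R _).2 fun j hj => ?_
  by_cases h : j = ⟨k, hk⟩
  · subst h; simp
  · rw [Finsupp.sub_apply, Finsupp.single_eq_of_ne h, sub_zero]
    refine (Finsupp.mem_supported' R f).1 hf j fun hj' => h (Fin.ext ?_)
    exact le_antisymm (Nat.lt_succ_iff.1 hj') (not_lt.1 hj)

/-- The elementary form of weak regularity. -/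
def IsRegElem : Prop := ∀ i : Fin n, ∀ x : R, x * a i ∈ pre a i → x ∈ pre a i

theorem mem_triv_of_reg (H : IsRegElem a) : ∀ k ≤ n, ∀ f ∈ supp (R := R) k,
    linearCombination R a f = 0 → f ∈ triv a k := by
  intro k
  induction k with
  | zero =>
    intro _ f hf _
    have : f = 0 := Finsupp.ext fun j => (Finsupp.mem_supported' R f).1 hf j (Nat.not_lt_zero _)
    rw [this]; exact zero_mem _
  | succ k ih =>
    intro hk f hf h0
    set i : Fin n := ⟨k, hk⟩
    have hf' := exists_split hk hf
    set f' := f - Finsupp.single i (f i) with hf'def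
    have h1 : f i * a i ∈ pre a k := by
      refine (mem_pre_iff a k _).2 ⟨-f', neg_mem hf', ?_⟩
      rw [map_neg, hf'def, map_sub, h0, zero_sub, neg_neg, linearCombination_single, smul_eq_mul]
    obtain ⟨c, hc, hcx⟩ := (mem_pre_iff a k _).1 (H i (f i) h1)
    have hsingle : Finsupp.single i (1 : R) ∈ supp (k + 1) :=
      Finsupp.single_mem_supported R 1 (Nat.lt_succ_self k)
    have hg : linearCombination R a c • Finsupp.single i 1 - a i • c ∈ triv a (k + 1) := by
      refine Submodule.subset_span ⟨c, supp_mono (Nat.le_succ k) hc, Finsupp.single i 1, hsingle, ?_⟩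
      rw [linearCombination_single, one_smul]
    have hdec : f = (f' + a i • c) + (linearCombination R a c • Finsupp.single i 1 - a i • c) := by
      rw [hcx, Finsupp.smul_single, smul_eq_mul, mul_one, hf'def]; abel
    rw [hdec]
    refine add_mem (triv_mono a (Nat.le_succ k) (ih (Nat.le_of_succ_le hk) _
      (add_mem hf' (Submodule.smul_mem _ _ hc)) ?_)) hg
    rw [map_add, map_smul, hcx, hf'def, map_sub, h0, linearCombination_single, zero_sub, smul_eq_mul,
      smul_eq_mul, mul_comm, neg_add_cancel]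

theorem mem_triv_top_of_reg (H : IsRegElem a) {f : Fin n →₀ R} (h0 : linearCombination R a f = 0) :
    f ∈ triv a n :=
  mem_triv_of_reg a H n le_rfl f (by rw [supp_top]; trivial) h0

/-- Elements of `triv (k+1)`, decomposed along the last coordinate. -/
lemma triv_succ_decomp {k : ℕ} (hk : k < n) {x : Fin n →₀ R} (hx : x ∈ triv a (k + 1)) :
    ∃ s ∈ triv a k, ∃ c ∈ supp (R := R) k,
      x = s + a ⟨k, hk⟩ • c - linearCombination R a c • Finsupp.single ⟨k, hk⟩ 1 := by
  induction hx using Submodule.span_induction with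
  | mem x hx =>
    obtain ⟨g, hg, h, hh, rfl⟩ := hx
    set i : Fin n := ⟨k, hk⟩
    set g' := g - Finsupp.single i (g i) with hg'
    set h' := h - Finsupp.single i (h i) with hh'
    refine ⟨_, Submodule.subset_span ⟨g', exists_split hk hg, h', exists_split hk hh, rfl⟩,
      g i • h' - h i • g', sub_mem (Submodule.smul_mem _ _ (exists_split hk hh))
        (Submodule.smul_mem _ _ (exists_split hk hg)), ?_⟩
    have eg : g = g' + g i • Finsupp.single i 1 := by
      rw [Finsupp.smul_single, smul_eq_mul, mul_one, hg', sub_add_cancel]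
    have eh : h = h' + h i • Finsupp.single i 1 := by
      rw [Finsupp.smul_single, smul_eq_mul, mul_one, hh', sub_add_cancel]
    clear_value g' h'
    conv_lhs => rw [eg, eh]
    simp only [map_add, map_sub, map_smul, linearCombination_single, one_smul, smul_eq_mul]
    module
  | zero => exact ⟨0, zero_mem _, 0, zero_mem _, by simp⟩
  | add x y _ _ hx hy =>
    obtain ⟨s, hs, c, hc, rfl⟩ := hx
    obtain ⟨s', hs', c', hc', rfl⟩ := hy
    exact ⟨s + s', add_mem hs hs', c + c', add_mem hc hc', by rw [map_add]; module⟩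
  | smul r x _ hx =>
    obtain ⟨s, hs, c, hc, rfl⟩ := hx
    exact ⟨r • s, Submodule.smul_mem _ _ hs, r • c, Submodule.smul_mem _ _ hc, by
      rw [map_smul, smul_eq_mul]; module⟩

theorem reg_of_mem_triv [IsNoetherianRing R] (hjac : ∀ i, a i ∈ (⊥ : Ideal R).jacobson)
    (H : ∀ f : Fin n →₀ R, linearCombination R a f = 0 → f ∈ triv a n) : IsRegElem a := by
  have key : ∀ d k, k + d = n → ∀ f ∈ supp (R := R) k, linearCombination R a f = 0 → f ∈ triv a k := by
    intro d
    induction d with
    | zero => intro k hk f _ h0; rw [add_zero] at hk; rw [hk]; exact H f h0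
    | succ d ih =>
      intro k hk
      have hkn : k < n := by omega
      have ih' := ih (k + 1) (by omega)
      set Z : Submodule R (Fin n →₀ R) := supp k ⊓ LinearMap.ker (linearCombination R a) with hZ
      suffices Z ≤ triv a k from fun f hf h0 => this ⟨hf, h0⟩
      refine Submodule.le_of_le_smul_of_le_jacobson_bot (IsNoetherian.noetherian Z)
        ((Ideal.span_singleton_le_iff_mem _).2 (hjac ⟨k, hkn⟩)) ?_
      intro f hf
      obtain ⟨s, hs, c, hc, hfe⟩ := triv_succ_decomp a hkn (ih' f (supp_mono (Nat.le_succ k) hf.1) hf.2)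
      have hsk : s ∈ supp (R := R) k := by
        have : triv a k ≤ supp k := Submodule.span_le.2 (by
          rintro _ ⟨g, hg, h, hh, rfl⟩
          exact sub_mem (Submodule.smul_mem _ _ hh) (Submodule.smul_mem _ _ hg))
        exact this hs
      have hz : linearCombination R a c = 0 := by
        have h1 := (Finsupp.mem_supported' R f).1 hf.1 ⟨k, hkn⟩ (lt_irrefl k)
        have h2 := (Finsupp.mem_supported' R s).1 hsk ⟨k, hkn⟩ (lt_irrefl k)
        have h3 := (Finsupp.mem_supported' R c).1 hc ⟨k, hkn⟩ (lt_irrefl k)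
        rw [hfe, Finsupp.sub_apply, Finsupp.add_apply, Finsupp.smul_apply, Finsupp.smul_apply, h2, h3,
          Finsupp.single_eq_same, smul_eq_mul, smul_eq_mul, mul_zero, add_zero, mul_one, zero_sub,
          neg_eq_zero] at h1
        exact h1
      rw [hfe, hz, zero_smul, sub_zero]
      exact Submodule.add_mem_sup hs
        (Submodule.smul_mem_smul (Ideal.mem_span_singleton_self _) ⟨hc, hz⟩)
  intro i x hx
  obtain ⟨c, hc, hcx⟩ := (mem_pre_iff a i _).1 hx
  have hf : c - x • Finsupp.single i 1 ∈ supp ((i : ℕ) + 1) :=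
    sub_mem (supp_mono (Nat.le_succ _) hc)
      (Submodule.smul_mem _ _ (Finsupp.single_mem_supported R 1 (Nat.lt_succ_self _)))
  have h0 : linearCombination R a (c - x • Finsupp.single i 1) = 0 := by
    rw [map_sub, map_smul, hcx, linearCombination_single, one_smul, smul_eq_mul, sub_self]
  obtain ⟨s, hs, e, he, hse⟩ :=
    triv_succ_decomp a i.2 (key (n - (i + 1)) (i + 1) (by omega) _ hf h0)
  have hsk : s ∈ supp (R := R) (i : ℕ) := by
    have : triv a (i : ℕ) ≤ supp (i : ℕ) := Submodule.span_le.2 (by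
      rintro _ ⟨g, hg, h, hh, rfl⟩
      exact sub_mem (Submodule.smul_mem _ _ hh) (Submodule.smul_mem _ _ hg))
    exact this hs
  have h2 := (Finsupp.mem_supported' R s).1 hsk i (lt_irrefl (i : ℕ))
  have h3 := (Finsupp.mem_supported' R e).1 he i (lt_irrefl (i : ℕ))
  have h4 := (Finsupp.mem_supported' R c).1 hc i (lt_irrefl (i : ℕ))
  have h5 := DFunLike.congr_fun hse i
  rw [Finsupp.sub_apply, Finsupp.smul_apply, h4, Finsupp.single_eq_same, Finsupp.sub_apply,
    Finsupp.add_apply, Finsupp.smul_apply, Finsupp.smul_apply, h2, h3] at h5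
  simp only [Fin.eta, Finsupp.single_eq_same, smul_eq_mul, mul_one, mul_zero, add_zero, zero_sub, neg_inj] at h5
  exact h5 ▸ (mem_pre_iff a i _).2 ⟨e, he, rfl⟩

lemma pre_get (rs : List R) (k : ℕ) : pre (fun i : Fin rs.length => rs[i]) k = Ideal.ofList (rs.take k) := by
  rw [pre, Ideal.ofList]
  congr 1
  ext x
  simp only [Set.mem_image, Set.mem_ofPred_eq]
  constructor
  · rintro ⟨j, hj, rfl⟩
    exact List.mem_take_iff_getElem.2 ⟨j, lt_min hj j.2, rfl⟩
  · intro hx
    obtain ⟨j, hj, rfl⟩ := List.mem_take_iff_getElem.1 hx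
    exact ⟨⟨j, (lt_min_iff.1 hj).2⟩, (lt_min_iff.1 hj).1, rfl⟩

theorem isWeaklyRegular_iff_isRegElem (rs : List R) :
    RingTheory.Sequence.IsWeaklyRegular R rs ↔ IsRegElem (fun i : Fin rs.length => rs[i]) := by
  rw [RingTheory.Sequence.isWeaklyRegular_iff_Fin]
  refine forall_congr' fun i => ?_
  rw [pre_get]
  rw [show (Ideal.ofList (rs.take i) • ⊤ : Submodule R R) = Ideal.ofList (rs.take i) by
    rw [smul_eq_mul, Ideal.mul_top]]
  rw [isSMulRegular_quotient_iff_mem_of_smul_mem]
  simp only [smul_eq_mul]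
  exact ⟨fun h x hx => h x (by rwa [mul_comm]), fun h x hx => h x (by rwa [mul_comm])⟩

end CotTLib
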