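import Groth.Agent.CotTLib.Invariance
import Groth.Agent.CotTLib.Koszul

/-!
# Vanishing criteria and simple presentations
-/

set_option autoImplicit false
set_option maxHeartbeats 800000

universe u v w t m

open TensorProduct CotT

noncomputable section

namespace CotTLib

theorem IsRegElem.map {R S : Type*} [CommRing R] [CommRing S] (e : R ≃+* S) {n : ℕ} {a : Fin n → R}
    (h : IsRegElem a) : IsRegElem (fun i => e (a i)) := by
  have hp : ∀ k, pre (fun i => e (a i)) k = (pre a k).map (e : R →+* S) := fun k => by
    rw [pre, pre, Ideal.map_span, ← Set.image_comp]; rfl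
  intro i x hx
  rw [hp] at hx ⊢
  obtain ⟨y, rfl⟩ := e.surjective x
  rw [← map_mul, Ideal.map_coe, Ideal.apply_mem_of_equiv_iff] at hx
  exact Ideal.mem_map_of_mem _ (h i y hx)

variable {A : Type u} {B : Type v} {ι : Type w} {σ : Type t}
variable [CommRing A] [CommRing B] [Algebra A B]

theorem subsingleton_L2 (P : Algebra.Presentation A B ι σ) (h : relKer P ≤ trivRel P) :
    Subsingleton (L2 P) := by
  rw [Submodule.Quotient.subsingleton_iff, LinearMap.range_eq_top]
  exact LinearMap.baseChange_surjective _ (fun q => ⟨⟨q, h q.2⟩, rfl⟩)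

theorem subsingleton_T2_of_L2 (P : Algebra.Presentation A B ι σ) [Subsingleton (L2 P)]
    (M : Type m) [AddCommGroup M] [Module B M] : Subsingleton (T2 P M) :=
  haveI : Subsingleton (L2 P →ₗ[B] M) :=
    ⟨fun f g => LinearMap.ext fun x => by rw [Subsingleton.elim x 0, map_zero, map_zero]⟩
  inferInstance

theorem subsingleton_T1_of_isEmpty (P : Algebra.Presentation A B ι σ) [IsEmpty σ]
    (M : Type m) [AddCommGroup M] [Module B M] : Subsingleton (T1 P M) :=
  haveI : Subsingleton (cocycles1 P M) :=
    ⟨fun f g => Subtype.ext ((L1basis P).ext fun s => isEmptyElim s)⟩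
  inferInstance

/-- An algebra isomorphic to a polynomial ring, presented with no relations. -/
def polyPres {κ : Type w} (e : MvPolynomial κ A ≃ₐ[A] B) : Algebra.Presentation A B κ PEmpty.{t + 1} where
  __ := Algebra.Generators.ofSurjective (fun i => e (MvPolynomial.X i)) (by
    have : MvPolynomial.aeval (R := A) (fun i => e (MvPolynomial.X i)) = e.toAlgHom :=
      MvPolynomial.algHom_ext (fun i => by simp)
    rw [this]; exact e.surjective)
  relation := PEmpty.elim
  span_range_relation_eq_ker := by
    rw [Set.range_eq_empty, Ideal.span_empty, eq_comm, eq_bot_iff]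
    intro x hx
    have hx' : MvPolynomial.aeval (fun i => e (MvPolynomial.X i)) x = 0 := by
      rw [Algebra.Generators.ker_eq_ker_aeval_val, RingHom.mem_ker] at hx
      exact hx
    have : MvPolynomial.aeval (R := A) (fun i => e (MvPolynomial.X i)) = e.toAlgHom :=
      MvPolynomial.algHom_ext (fun i => by simp)
    rw [this] at hx'
    exact e.injective (hx'.trans (map_zero e).symm)

/-- A quotient `B = A/(a)`, presented with no variables. -/
def quotPres (hs : Function.Surjective (algebraMap A B)) {n : ℕ} (a : Fin n → A)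
    (hker : RingHom.ker (algebraMap A B) = Ideal.span (Set.range a)) :
    Algebra.Presentation A B PEmpty.{w + 1} (Fin n) where
  __ := Algebra.Generators.ofSurjectiveAlgebraMap hs
  relation i := MvPolynomial.C (a i)
  span_range_relation_eq_ker := by
    refine le_antisymm (Ideal.span_le.2 ?_) fun x hx => ?_
    · rintro _ ⟨i, rfl⟩
      have : algebraMap A B (a i) = 0 := by
        rw [← RingHom.mem_ker, hker]; exact Ideal.subset_span ⟨i, rfl⟩
      rw [SetLike.mem_coe, Algebra.Generators.ker_eq_ker_aeval_val, RingHom.mem_ker, MvPolynomial.aeval_C]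
      exact this
    · obtain ⟨c, rfl⟩ := MvPolynomial.C_surjective PEmpty x
      rw [Algebra.Generators.ker_eq_ker_aeval_val, RingHom.mem_ker, MvPolynomial.aeval_C] at hx
      have hc : c ∈ Ideal.span (Set.range a) := by rw [← hker]; exact hx
      have := Ideal.mem_map_of_mem (MvPolynomial.C (σ := PEmpty.{w + 1})) hc
      rwa [Ideal.map_span, ← Set.range_comp] at this

theorem relKer_le_trivRel {n : ℕ} {P : Algebra.Presentation A B ι (Fin n)} (h : IsRegElem (rel P)) :
    relKer P ≤ trivRel P := by
  intro q hq
  refine (Submodule.span_le.2 ?_ : triv (rel P) n ≤ trivRel P) (mem_triv_top_of_reg (rel P) h hq)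
  rintro _ ⟨g, -, h', -, rfl⟩
  exact Submodule.subset_span ⟨g, h', rfl⟩

theorem quotPres_isRegElem (hs : Function.Surjective (algebraMap A B)) {n : ℕ} (a : Fin n → A)
    (hker : RingHom.ker (algebraMap A B) = Ideal.span (Set.range a)) (h : IsRegElem a) :
    IsRegElem (rel (quotPres.{u, v, w} hs a hker)) :=
  h.map (MvPolynomial.isEmptyRingEquiv A PEmpty.{w + 1}).symm

end CotTLib
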