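import Groth.Agent.CotTLib.Tower
import Groth.Prelude.Def_Exal

/-!
# Extensions of `B` by `M` are classified by `T¹(B/A, M)`
-/

set_option autoImplicit false
set_option maxHeartbeats 1600000

universe u

open TensorProduct CotT

noncomputable section

namespace CotTLib

attribute [local instance] Exal.opModule Exal.isCentralScalar_opModule

variable {A B : Type u} [CommRing A] [CommRing B] [Algebra A B] {ι σ : Type u}
variable (P : Algebra.Presentation A B ι σ) (M : Type u) [AddCommGroup M] [Module B M]

/-- `M` as a module over the polynomial ring. -/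
abbrev ringModule : Module P.toExtension.Ring M := Module.compHom M (algebraMap P.toExtension.Ring B)

/-- The carrier `R ⊕ M`. -/
abbrev WCar : Type u :=
  letI := ringModule P M
  Exal.Ext.TrivCarrier A P.toExtension.Ring M

variable {P M}

/-- Pairs in `R ⊕ M`. -/
def wmk (r : P.toExtension.Ring) (m : M) : WCar P M := (r, m)

/-- First component. -/
def wfst (x : WCar P M) : P.toExtension.Ring := TrivSqZeroExt.fst x

/-- Second component. -/
def wsnd (x : WCar P M) : M := TrivSqZeroExt.snd x

lemma wext {x y : WCar P M} (h1 : wfst x = wfst y) (h2 : wsnd x = wsnd y) : x = y :=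
  TrivSqZeroExt.ext h1 h2

@[simp] lemma wfst_mk (r : P.toExtension.Ring) (m : M) : wfst (wmk r m) = r := rfl
@[simp] lemma wsnd_mk (r : P.toExtension.Ring) (m : M) : wsnd (wmk r m) = m := rfl
lemma wfst_add (x y : WCar P M) : wfst (x + y) = wfst x + wfst y := rfl
lemma wsnd_add (x y : WCar P M) : wsnd (x + y) = wsnd x + wsnd y := rfl
lemma wfst_zero : wfst (0 : WCar P M) = 0 := rfl
lemma wsnd_zero : wsnd (0 : WCar P M) = 0 := rfl
lemma wfst_one : wfst (1 : WCar P M) = 1 := rfl
lemma wsnd_one : wsnd (1 : WCar P M) = 0 := rfl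
lemma wfst_mul (x y : WCar P M) : wfst (x * y) = wfst x * wfst y := rfl
lemma wsnd_mul (x y : WCar P M) : wsnd (x * y) = algebraMap P.toExtension.Ring B (wfst x) • wsnd y +
    algebraMap P.toExtension.Ring B (wfst y) • wsnd x := rfl
lemma wfst_algebraMap (a : A) : wfst (algebraMap A (WCar P M) a) = algebraMap A P.toExtension.Ring a := rfl
lemma wsnd_algebraMap (a : A) : wsnd (algebraMap A (WCar P M) a) = 0 := rfl

/-- The ideal cutting out the model extension. -/
def wIdeal (c : L1 P →ₗ[B] M) : Ideal (WCar P M) where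
  carrier := {x | ∃ f : relMod P, jmap P f = wfst x ∧ -(c ((1 : B) ⊗ₜ f)) = wsnd x}
  zero_mem' := ⟨0, by simp [wfst_zero], by simp [wsnd_zero]⟩
  add_mem' := by
    rintro x y ⟨f, hf, hf'⟩ ⟨g, hg, hg'⟩
    exact ⟨f + g, by rw [map_add, hf, hg, wfst_add],
      by rw [TensorProduct.tmul_add, map_add, neg_add, hf', hg', wsnd_add]⟩
  smul_mem' := by
    rintro w x ⟨f, hf, hf'⟩
    refine ⟨wfst w • f, by rw [map_smul, hf, smul_eq_mul, smul_eq_mul, wfst_mul], ?_⟩
    rw [TensorProduct.tmul_smul, ← algebraMap_smul B (wfst w), map_smul, ← smul_neg, hf', smul_eq_mul,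
      wsnd_mul, ← hf, algebraMap_jmap, zero_smul, add_zero]

lemma proj_aux (c : L1 P →ₗ[B] M) (x : WCar P M) (hx : x ∈ wIdeal c) :
    algebraMap P.toExtension.Ring B (wfst x) = 0 := by
  obtain ⟨f, hf, -⟩ := hx
  rw [← hf, algebraMap_jmap]

/-- `R ⊕ M → B`. -/
def wproj : WCar P M →ₐ[A] B where
  toFun x := algebraMap P.toExtension.Ring B (wfst x)
  map_one' := by rw [wfst_one, map_one]
  map_mul' x y := by rw [wfst_mul, map_mul]
  map_zero' := by rw [wfst_zero, map_zero]
  map_add' x y := by rw [wfst_add, map_add]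
  commutes' a := by rw [wfst_algebraMap, ← IsScalarTower.algebraMap_apply]

/-- The extension of a 1-cocycle. -/
def model (c : cocycles1 P M) : Exal.Ext A B M where
  E := WCar P M ⧸ wIdeal c.1
  proj := Ideal.Quotient.liftₐ _ wproj (proj_aux c.1)
  incl :=
    { toFun := fun m => Ideal.Quotient.mk _ (wmk 0 m)
      map_zero' := (congrArg _ (wext rfl rfl : wmk (P := P) 0 (0 : M) = 0)).trans (map_zero _)
      map_add' := fun a b => by
        rw [← map_add]
        exact congrArg _ (wext (add_zero _).symm rfl) }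
  isExtension :=
    { proj_surjective := fun b => by
        obtain ⟨r, hr⟩ := P.toExtension.algebraMap_surjective b
        exact ⟨Ideal.Quotient.mk _ (wmk r 0), hr⟩
      incl_injective := (injective_iff_map_eq_zero _).2 fun m hm => by
        obtain ⟨f, hf, hf'⟩ := Ideal.Quotient.eq_zero_iff_mem.1 hm
        rw [wfst_mk] at hf
        rw [wsnd_mk] at hf'
        rw [← hf', ← d2_mk_tmul P 1 ⟨f, hf⟩]
        exact neg_eq_zero.2 (LinearMap.congr_fun (show d2Star P M c.1 = 0 from c.2) _)
      exact := fun z => by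
        obtain ⟨x, rfl⟩ := Ideal.Quotient.mk_surjective z
        constructor
        · intro hx
          obtain ⟨f, hf⟩ := (range_jmap P).ge (show wfst x ∈ P.ker from hx)
          refine ⟨wsnd x + c.1 ((1 : B) ⊗ₜ f), Ideal.Quotient.eq.2 ?_⟩
          refine ⟨-f, ?_, ?_⟩
          · rw [map_neg, hf]
            exact (zero_sub (wfst x)).symm
          · rw [TensorProduct.tmul_neg, map_neg, neg_neg]
            exact (add_sub_cancel_left (wsnd x) (c.1 ((1 : B) ⊗ₜ f))).symm
        · rintro ⟨m, hm⟩
          rw [← hm]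
          exact map_zero (algebraMap P.toExtension.Ring B)
      mul_incl := fun z m => by
        obtain ⟨x, rfl⟩ := Ideal.Quotient.mk_surjective z
        change Ideal.Quotient.mk _ x * Ideal.Quotient.mk _ (wmk 0 m) =
          Ideal.Quotient.mk _ (wmk 0 (algebraMap P.toExtension.Ring B (wfst x) • m))
        rw [← map_mul]
        refine congrArg _ (wext ?_ ?_)
        · rw [wfst_mul, wfst_mk, wfst_mk, mul_zero]
        · rw [wsnd_mul, wfst_mk, wsnd_mk, wsnd_mk, map_zero, zero_smul, add_zero] }

/-- Lifts of the generators to an extension. -/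
def IsLift (X : Exal.Ext A B M) (l : ι → X.E) : Prop := ∀ i, X.proj (l i) = P.val i

/-- `R → E`. -/
def liftHom {X : Exal.Ext A B M} (l : ι → X.E) : P.toExtension.Ring →ₐ[A] X.E := MvPolynomial.aeval l

lemma proj_liftHom {X : Exal.Ext A B M} {l : ι → X.E} (hl : IsLift (P := P) X l) (r : P.toExtension.Ring) :
    X.proj (liftHom l r) = algebraMap P.toExtension.Ring B r := by
  rw [algebraMap_toExtension]
  change (X.proj.comp (MvPolynomial.aeval l)) r = _
  rw [MvPolynomial.comp_aeval, show (fun i => X.proj (l i)) = P.val from funext hl]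

/-- The cocycle of lifts, as a linear map. -/
def cocFun {X : Exal.Ext A B M} (l : ι → X.E) (hl : IsLift (P := P) X l) : L1 P →ₗ[B] M :=
  (L1basis P).constr B fun s => X.kerLift (liftHom l (rel P s)) (by rw [proj_liftHom hl, algebraMap_rel])

lemma incl_cocFun {X : Exal.Ext A B M} (l : ι → X.E) (hl : IsLift (P := P) X l) (f : relMod P) :
    X.incl (cocFun l hl ((1 : B) ⊗ₜ f)) = liftHom l (jmap P f) := by
  induction f using Finsupp.induction_linear with
  | zero => simp
  | add a b ha hb => simp only [TensorProduct.tmul_add, map_add, ha, hb]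
  | single s r =>
    rw [← mul_one r, ← smul_eq_mul, ← Finsupp.smul_single, TensorProduct.tmul_smul, ← algebraMap_smul B r,
      map_smul, ← L1basis_apply, cocFun, Module.Basis.constr_basis, ← proj_liftHom hl r,
      ← X.isExtension.mul_incl, Exal.Ext.incl_kerLift, map_smul, jmap_single, one_mul, smul_eq_mul]
    exact (map_mul (liftHom l) r (rel P s)).symm

lemma cocFun_mem {X : Exal.Ext A B M} (l : ι → X.E) (hl : IsLift (P := P) X l) :
    cocFun l hl ∈ cocycles1 P M := by
  refine LinearMap.mem_ker.2 (LinearMap.ext fun z => ?_)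
  obtain ⟨q, rfl⟩ := mk_one_tmul_surjective P z
  refine X.isExtension.incl_injective ?_
  rw [LinearMap.zero_apply, map_zero]
  change X.incl (cocFun l hl (d2 P _)) = 0
  rw [d2_mk_tmul, incl_cocFun, show jmap P (q : relMod P) = 0 from q.2, map_zero]

/-- The cocycle of lifts. -/
def coc {X : Exal.Ext A B M} (l : ι → X.E) (hl : IsLift (P := P) X l) : cocycles1 P M :=
  ⟨cocFun l hl, cocFun_mem l hl⟩

/-- `R ⊕ M → E`. -/
def wHom {X : Exal.Ext A B M} (l : ι → X.E) (hl : IsLift (P := P) X l) : WCar P M →ₐ[A] X.E where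
  toFun x := liftHom l (wfst x) + X.incl (wsnd x)
  map_one' := by rw [wfst_one, wsnd_one, map_one, map_zero, add_zero]
  map_mul' x y := by
    rw [wfst_mul, wsnd_mul, map_mul, map_add, ← proj_liftHom hl, ← proj_liftHom hl, ← X.isExtension.mul_incl,
      ← X.isExtension.mul_incl]
    have h0 : X.incl (wsnd x) * X.incl (wsnd y) = 0 := by
      rw [X.isExtension.mul_incl, (X.isExtension.exact _).2 ⟨_, rfl⟩, zero_smul, map_zero]
    linear_combination -h0
  map_zero' := by rw [wfst_zero, wsnd_zero, map_zero, map_zero, add_zero]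
  map_add' x y := by rw [wfst_add, wsnd_add, map_add, map_add]; abel
  commutes' a := by rw [wfst_algebraMap, wsnd_algebraMap, map_zero, add_zero, AlgHom.commutes]

lemma wHom_ker {X : Exal.Ext A B M} (l : ι → X.E) (hl : IsLift (P := P) X l) :
    RingHom.ker (wHom l hl) = wIdeal (coc l hl).1 := by
  ext x
  rw [RingHom.mem_ker]
  change liftHom l (wfst x) + X.incl (wsnd x) = 0 ↔ _
  constructor
  · intro h
    have hp := congrArg X.proj h
    rw [map_add, proj_liftHom hl, (X.isExtension.exact (X.incl (wsnd x))).2 ⟨_, rfl⟩, add_zero, map_zero] at hp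
    obtain ⟨f, hf⟩ := (range_jmap P).ge (show wfst x ∈ P.ker from hp)
    refine ⟨f, hf, X.isExtension.incl_injective ?_⟩
    rw [map_neg]
    change -X.incl (cocFun l hl _) = _
    rw [incl_cocFun, hf]
    exact (eq_neg_of_add_eq_zero_right h).symm
  · rintro ⟨f, hf, hf'⟩
    rw [← hf, ← hf', map_neg, ← incl_cocFun l hl f]
    exact add_neg_cancel _

lemma wHom_surjective {X : Exal.Ext A B M} (l : ι → X.E) (hl : IsLift (P := P) X l) :
    Function.Surjective (wHom l hl) := by
  intro e
  obtain ⟨r, hr⟩ := P.toExtension.algebraMap_surjective (X.proj e)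
  obtain ⟨m, hm⟩ := (X.isExtension.exact (e - liftHom l r)).1 (by rw [map_sub, proj_liftHom hl, hr, sub_self])
  refine ⟨wmk r m, ?_⟩
  change liftHom l r + X.incl m = e
  rw [hm, add_sub_cancel]

/-- An extension is equivalent to the model of its cocycle. -/
theorem cl_eq_model {X : Exal.Ext A B M} (l : ι → X.E) (hl : IsLift (P := P) X l) :
    X.cl = (model (coc l hl)).cl := by
  refine (Quotient.sound (s := Exal.Ext.setoid A B M) (show Nonempty ((model (coc l hl)).Equiv X) from ⟨?_⟩)).symm
  let e : (model (coc l hl)).E ≃ₐ[A] X.E :=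
    (Ideal.quotientEquivAlgOfEq A (wHom_ker l hl).symm).trans
      (Ideal.quotientKerAlgEquivOfSurjective (wHom_surjective l hl))
  have he : ∀ x, e (Ideal.Quotient.mk _ x) = wHom l hl x := fun _ => rfl
  refine { toAlgEquiv := e, proj_apply := fun z => ?_, apply_incl := fun m => ?_ }
  · obtain ⟨x, rfl⟩ := Ideal.Quotient.mk_surjective z
    rw [he]
    change X.proj (liftHom l (wfst x) + X.incl (wsnd x)) = algebraMap P.toExtension.Ring B (wfst x)
    rw [map_add, proj_liftHom hl, (X.isExtension.exact (X.incl (wsnd x))).2 ⟨_, rfl⟩, add_zero]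
  · refine (he _).trans ?_
    change liftHom l (0 : P.toExtension.Ring) + X.incl m = X.incl m
    rw [map_zero, zero_add]

/-- Changing lifts changes the cocycle by a coboundary. -/
theorem coc_add {X : Exal.Ext A B M} (l : ι → X.E) (hl : IsLift (P := P) X l) (χ : L0 P →ₗ[B] M)
    (hl' : IsLift (P := P) X (fun i => l i + X.incl (χ (P.cotangentSpaceBasis i)))) :
    (coc _ hl').1 = cocFun l hl + χ ∘ₗ d1 P := by
  set l' := fun i => l i + X.incl (χ (P.cotangentSpaceBasis i))
  have key : ∀ r : P.toExtension.Ring, liftHom l' r =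
      liftHom l r + X.incl (χ ((1 : B) ⊗ₜ KaehlerDifferential.D A P.toExtension.Ring r)) := by
    intro r
    induction r using ring_induction (P := P) with
    | hC a =>
      rw [AlgHom.commutes, AlgHom.commutes, Derivation.map_algebraMap, TensorProduct.tmul_zero, map_zero,
        map_zero, add_zero]
    | hadd p q hp hq => rw [map_add, map_add, hp, hq]; simp only [map_add, TensorProduct.tmul_add]; abel
    | hmul p i hp =>
      have hX : ∀ k : ι → X.E, liftHom (P := P) k (varX P i) = k i := fun k => MvPolynomial.aeval_X k i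
      have hb : (1 : B) ⊗ₜ KaehlerDifferential.D A P.toExtension.Ring (varX P i) = P.cotangentSpaceBasis i :=
        (Algebra.Generators.cotangentSpaceBasis_apply (P := P.toGenerators) i).symm
      rw [map_mul, map_mul, hp, hX, hX, Derivation.leibniz, TensorProduct.tmul_add, TensorProduct.tmul_smul,
        TensorProduct.tmul_smul, ← algebraMap_smul B p, ← algebraMap_smul B (varX P i), hb, map_add, map_smul,
        map_smul, map_add, ← proj_liftHom hl, ← proj_liftHom hl (varX P i), hX, ← X.isExtension.mul_incl,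
        ← X.isExtension.mul_incl]
      simp only [l']
      have h0 : ∀ a b : M, X.incl a * X.incl b = 0 := fun a b => by
        rw [X.isExtension.mul_incl, (X.isExtension.exact _).2 ⟨_, rfl⟩, zero_smul, map_zero]
      linear_combination h0 (χ ((1 : B) ⊗ₜ KaehlerDifferential.D A P.toExtension.Ring p))
        (χ (P.cotangentSpaceBasis i))
  refine LinearMap.ext fun z => X.isExtension.incl_injective ?_
  obtain ⟨f, rfl⟩ := one_tmul_surjective P z
  change X.incl (cocFun l' hl' _) = X.incl (cocFun l hl _ + χ (d1 P _))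
  rw [map_add, incl_cocFun, incl_cocFun, d1_tmul, one_smul, key]

lemma isLift_add {X : Exal.Ext A B M} {l : ι → X.E} (hl : IsLift (P := P) X l) (m : ι → M) :
    IsLift (P := P) X (fun i => l i + X.incl (m i)) := fun i => by
  rw [map_add, hl, (X.isExtension.exact (X.incl (m i))).2 ⟨_, rfl⟩, add_zero]

variable (P) in
/-- Some lifts. -/
def someLift (X : Exal.Ext A B M) : ι → X.E := fun i => (X.isExtension.proj_surjective (P.val i)).choose

lemma someLift_spec (X : Exal.Ext A B M) : IsLift (P := P) X (someLift P X) :=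
  fun i => (X.isExtension.proj_surjective (P.val i)).choose_spec

theorem coc_class_eq {X : Exal.Ext A B M} (l l' : ι → X.E) (hl : IsLift (P := P) X l) (hl' : IsLift (P := P) X l') :
    (Submodule.Quotient.mk (coc l hl) : T1 P M) = Submodule.Quotient.mk (coc l' hl') := by
  obtain ⟨χ, rfl⟩ : ∃ χ : L0 P →ₗ[B] M, l' = fun i => l i + X.incl (χ (P.cotangentSpaceBasis i)) :=
    ⟨P.cotangentSpaceBasis.constr B fun i => X.kerLift (l' i - l i) (by rw [map_sub, hl, hl', sub_self]),
      funext fun i => by rw [Module.Basis.constr_basis, Exal.Ext.incl_kerLift, add_sub_cancel]⟩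
  rw [eq_comm, Submodule.Quotient.eq]
  refine ⟨χ, ?_⟩
  change χ ∘ₗ d1 P = (coc _ hl').1 - cocFun l hl
  rw [coc_add l hl χ, add_sub_cancel_left]

/-- The class of an extension in `T¹`. -/
def classOf (X : Exal.Ext A B M) : T1 P M := Submodule.Quotient.mk (coc _ (someLift_spec (P := P) X))

theorem classOf_eq_of_equiv {X Y : Exal.Ext A B M} (e : X.Equiv Y) :
    classOf (P := P) X = classOf Y := by
  have hl : IsLift (P := P) Y (fun i => e.toAlgEquiv (someLift P X i)) := fun i => by
    rw [e.proj_apply]; exact someLift_spec X i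
  refine Eq.trans (congrArg Submodule.Quotient.mk (Subtype.ext ((L1basis P).ext fun s => ?_)))
    (coc_class_eq _ _ hl (someLift_spec Y))
  rw [L1basis_apply]
  refine Y.isExtension.incl_injective ?_
  change Y.incl (cocFun _ (someLift_spec X) _) = Y.incl (cocFun _ hl _)
  rw [incl_cocFun, ← e.apply_incl, incl_cocFun]
  generalize jmap P (Finsupp.single s 1) = r
  change e.toAlgEquiv.toAlgHom (MvPolynomial.aeval (someLift P X) r) = MvPolynomial.aeval _ r
  rw [← AlgHom.comp_apply, MvPolynomial.comp_aeval]
  rfl

variable (P M) in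
/-- The comparison map. -/
def exalToT1 : Exal.Exalcom A B M → T1 P M :=
  Quotient.lift (classOf (P := P)) fun _ _ ⟨e⟩ => classOf_eq_of_equiv e

theorem classOf_model (c : cocycles1 P M) : classOf (model c) = Submodule.Quotient.mk c := by
  let l : ι → (model c).E := fun i => Ideal.Quotient.mk _ (wmk (varX P i) 0)
  have hl : IsLift (P := P) (model c) l := fun i => by
    change algebraMap P.toExtension.Ring B (varX P i) = P.val i
    rw [algebraMap_toExtension]
    exact MvPolynomial.aeval_X _ i
  refine (coc_class_eq _ l (someLift_spec (P := P) (model c)) hl).trans ?_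
  have key : ∀ r : P.toExtension.Ring, liftHom l r = Ideal.Quotient.mk (wIdeal c.1) (wmk r 0) := by
    intro r
    induction r using ring_induction (P := P) with
    | hC a => rw [AlgHom.commutes]; rfl
    | hadd p q hp hq =>
      rw [map_add, hp, hq]
      exact ((map_add (Ideal.Quotient.mk (wIdeal c.1)) _ _).symm).trans (congrArg _ (wext rfl (add_zero _)))
    | hmul p i hp =>
      rw [map_mul, hp, show liftHom l (varX P i) = l i from MvPolynomial.aeval_X _ i]
      refine ((map_mul (Ideal.Quotient.mk (wIdeal c.1)) _ _).symm).trans (congrArg _ (wext rfl ?_))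
      rw [wsnd_mul]; simp
  refine congrArg Submodule.Quotient.mk (Subtype.ext (LinearMap.ext fun z => ?_))
  obtain ⟨f, rfl⟩ := one_tmul_surjective P z
  refine (model c).isExtension.incl_injective ?_
  change (model c).incl (cocFun l hl _) = Ideal.Quotient.mk _ (wmk 0 _)
  rw [incl_cocFun, key]
  refine Ideal.Quotient.eq.2 ⟨f, ?_, ?_⟩
  · exact (sub_zero _).symm
  · exact (zero_sub _).symm

theorem exalToT1_bijective : Function.Bijective (exalToT1 P M) := by
  refine ⟨fun x y h => ?_, fun t => ?_⟩
  · obtain ⟨X, rfl⟩ := Quotient.exists_rep x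
    obtain ⟨Y, rfl⟩ := Quotient.exists_rep y
    obtain ⟨χ, hχ⟩ := (Submodule.Quotient.eq _).1 (show classOf (P := P) X = classOf Y from h)
    have hl' := isLift_add (someLift_spec (P := P) Y) (fun i => χ (P.cotangentSpaceBasis i))
    have hc : coc _ hl' = coc _ (someLift_spec (P := P) X) := Subtype.ext (by
      rw [coc_add _ (someLift_spec Y) χ, show χ ∘ₗ d1 P = (coc _ (someLift_spec (P := P) X)).1 -
        cocFun _ (someLift_spec (P := P) Y) from hχ, add_sub_cancel])
    change X.cl = Y.cl
    rw [cl_eq_model _ (someLift_spec (P := P) X), cl_eq_model _ hl', hc]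
  · obtain ⟨c, rfl⟩ := Submodule.Quotient.mk_surjective _ t
    exact ⟨(model c).cl, classOf_model c⟩

theorem exalToT1_zero : exalToT1 P M 0 = 0 := by
  let X := Exal.Ext.trivial A B M
  let l : ι → X.E := fun i => (TrivSqZeroExt.inl (P.val i) : TrivSqZeroExt B M)
  have hl : IsLift (P := P) X l := fun _ => rfl
  change classOf X = 0
  refine (coc_class_eq _ l (someLift_spec (P := P) X) hl).trans
    ((congrArg Submodule.Quotient.mk (Subtype.ext ((L1basis P).ext fun s => ?_) : coc l hl = 0)).trans rfl)
  refine X.isExtension.incl_injective ?_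
  rw [L1basis_apply]
  change X.incl (cocFun l hl _) = X.incl 0
  rw [incl_cocFun, map_zero, jmap_single, one_mul]
  have key : ∀ r : P.toExtension.Ring,
      liftHom l r = (TrivSqZeroExt.inl (algebraMap P.toExtension.Ring B r) : TrivSqZeroExt B M) := by
    intro r
    induction r using ring_induction (P := P) with
    | hC a => rw [(liftHom l).commutes, ← IsScalarTower.algebraMap_apply]; rfl
    | hadd p q hp hq => rw [map_add, hp, hq, map_add, TrivSqZeroExt.inl_add]; rfl
    | hmul p i hp =>
      rw [map_mul, hp, show liftHom l (varX P i) = l i from MvPolynomial.aeval_X _ i, map_mul,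
        TrivSqZeroExt.inl_mul]
      congr 2
      rw [algebraMap_toExtension]
      exact congrArg TrivSqZeroExt.inl (MvPolynomial.aeval_X (R := A) P.val i).symm
  rw [key, algebraMap_rel]
  exact TrivSqZeroExt.inl_zero M

end CotTLib
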