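import Groth.Prelude.Def_CotT2
import Mathlib

/-!
# Morphisms of presentations over the same square induce the same maps on `T⁰, T¹, T²`

Twisted derivation `D : R → F'/F₀'` attached to two ring maps `φ φ' : R → R'` congruent mod `I'`.
-/

set_option autoImplicit false

universe u u' u'' v v' v'' w w' w'' t t' t'' m

open TensorProduct

noncomputable section

namespace CotTLib

open CotT

set_option backward.isDefEq.respectTransparency false
set_option maxHeartbeats 800000

section Aux

variable {R N : Type*} [CommRing R] [AddCommGroup N] [Module R N]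

lemma tw_assoc (a b c p q : R) (l m n : N) :
    (a * b) • l + c • (a • m + b • n - p • m) - (a * q + b * p - p * q) • l =
      a • (b • l + c • m - q • l) + (b * c) • n - p • (b • l + c • m - q • l) := by module

lemma tw_distrib (a b c p : R) (n m l : N) :
    a • (m + l) + (b + c) • n - p • (m + l) =
      a • m + b • n - p • m + (a • l + c • n - p • l) := by module

lemma tw_mul (c p q1 q2 : R) (u u' a b : N) (e1 : q1 • a = p • u') (e2 : q2 • a = p • b) :
    c • u - (c - p) • u' = c • (u - u' - b) + (c • b + (q1 + q2) • a - p • b) := by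
  rw [add_smul, e1, e2]; module

end Aux

variable {A : Type u} {B : Type v} {ι : Type w} {σ : Type t}
variable {A' : Type u'} {B' : Type v'} {ι' : Type w'} {σ' : Type t'}
variable [CommRing A] [CommRing B] [Algebra A B] [CommRing A'] [CommRing B'] [Algebra A' B']
variable (P' : Algebra.Presentation A' B' ι' σ')

/-- `F'/F₀'`. -/
abbrev NMod := relMod P' ⧸ trivRel P'

/-- `F'/F₀' → R'`. -/
def jN : NMod P' →ₗ[P'.toExtension.Ring] P'.toExtension.Ring :=
  Submodule.liftQ _ (jmap P') (trivRel_le_relKer P')

@[simp] lemma jN_mk (f : relMod P') : jN P' (Submodule.Quotient.mk f) = jmap P' f := rfl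

lemma jN_smul_comm (n m : NMod P') : jN P' n • m = jN P' m • n := by
  induction n using Submodule.Quotient.induction_on with
  | H a =>
  induction m using Submodule.Quotient.induction_on with
  | H b =>
  rw [jN_mk, jN_mk, ← Submodule.Quotient.mk_smul, ← Submodule.Quotient.mk_smul, Submodule.Quotient.eq]
  exact Submodule.subset_span ⟨a, b, rfl⟩

/-- Pairs `(φ r, D r)` of a ring map and a twisted derivation. -/
@[ext] structure TW where
  fst : P'.toExtension.Ring
  snd : NMod P'

namespace TW

variable {P'}

instance : Add (TW P') := ⟨fun x y => ⟨x.fst + y.fst, x.snd + y.snd⟩⟩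
instance : Zero (TW P') := ⟨⟨0, 0⟩⟩
instance : One (TW P') := ⟨⟨1, 0⟩⟩
instance : Neg (TW P') := ⟨fun x => ⟨-x.fst, -x.snd⟩⟩
instance : Mul (TW P') :=
  ⟨fun x y => ⟨x.fst * y.fst, x.fst • y.snd + y.fst • x.snd - jN P' x.snd • y.snd⟩⟩

lemma add_fst (x y : TW P') : (x + y).fst = x.fst + y.fst := rfl
lemma add_snd (x y : TW P') : (x + y).snd = x.snd + y.snd := rfl
lemma zero_fst : (0 : TW P').fst = 0 := rfl
lemma zero_snd : (0 : TW P').snd = 0 := rfl
lemma one_fst : (1 : TW P').fst = 1 := rfl
lemma one_snd : (1 : TW P').snd = 0 := rfl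
lemma neg_fst (x : TW P') : (-x).fst = -x.fst := rfl
lemma neg_snd (x : TW P') : (-x).snd = -x.snd := rfl
lemma mul_fst (x y : TW P') : (x * y).fst = x.fst * y.fst := rfl
lemma mul_snd (x y : TW P') :
    (x * y).snd = x.fst • y.snd + y.fst • x.snd - jN P' x.snd • y.snd := rfl

instance : CommRing (TW P') := CommRing.ofMinimalAxioms
  (fun x y z => TW.ext (add_assoc _ _ _) (add_assoc _ _ _))
  (fun x => TW.ext (zero_add _) (zero_add _))
  (fun x => TW.ext (neg_add_cancel _) (neg_add_cancel _))
  (fun x y z => by
    refine TW.ext (mul_assoc _ _ _) ?_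
    simp only [mul_fst, mul_snd, map_add, map_sub, map_smul, smul_eq_mul]
    exact tw_assoc x.fst y.fst z.fst (jN P' x.snd) (jN P' y.snd) z.snd y.snd x.snd)
  (fun x y => by
    refine TW.ext (mul_comm _ _) ?_
    rw [mul_snd, mul_snd, jN_smul_comm P' x.snd y.snd]
    abel)
  (fun x => by
    refine TW.ext (one_mul _) ?_
    simp [mul_snd, one_fst, one_snd])
  (fun x y z => by
    refine TW.ext (mul_add _ _ _) ?_
    simp only [mul_snd, add_fst, add_snd]
    exact tw_distrib x.fst y.fst z.fst (jN P' x.snd) x.snd y.snd z.snd)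

/-- `a ↦ (a, 0)`. -/
def inl : P'.toExtension.Ring →+* TW P' where
  toFun a := ⟨a, 0⟩
  map_one' := rfl
  map_mul' a b := by
    refine TW.ext rfl ?_
    simp [mul_snd]
  map_zero' := rfl
  map_add' a b := TW.ext rfl (add_zero _).symm

/-- `(a, n) ↦ a`. -/
def pr : TW P' →+* P'.toExtension.Ring where
  toFun := TW.fst
  map_one' := rfl
  map_mul' _ _ := rfl
  map_zero' := rfl
  map_add' _ _ := rfl

/-- `(a, n) ↦ a - j n`. -/
def pr' : TW P' →+* P'.toExtension.Ring where
  toFun x := x.fst - jN P' x.snd
  map_one' := by simp [one_fst, one_snd]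
  map_mul' x y := by
    simp only [mul_fst, mul_snd, map_add, map_sub, map_smul, smul_eq_mul]
    ring
  map_zero' := by simp [zero_fst, zero_snd]
  map_add' x y := by simp only [add_fst, add_snd, map_add]; ring

end TW

variable [Algebra A A'] [Algebra B B'] [Algebra A B'] [IsScalarTower A A' B'] [IsScalarTower A B B']
variable {P : Algebra.Presentation A B ι σ} {P'} (h h' : PresHom P P')

/-- A variable as an element of `P.toExtension.Ring`. -/
abbrev varX (P : Algebra.Presentation A B ι σ) (i : ι) : P.toExtension.Ring := MvPolynomial.X i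

omit [Algebra A A'] [Algebra B B'] [Algebra A B'] [IsScalarTower A A' B'] [IsScalarTower A B B'] in
lemma ring_induction {motive : P.toExtension.Ring → Prop} (r : P.toExtension.Ring)
    (hC : ∀ a : A, motive (algebraMap A P.toExtension.Ring a))
    (hadd : ∀ p q, motive p → motive q → motive (p + q))
    (hmul : ∀ p i, motive p → motive (p * varX P i)) : motive r :=
  MvPolynomial.induction_on (motive := motive) r hC hadd hmul

lemma ringHom_X (i : ι) : h.ringHom (varX P i) = h.hom.val i :=
  h.hom.toAlgHom_X i

lemma ringHom_C (a : A) :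
    h.ringHom (algebraMap A P.toExtension.Ring a) = algebraMap A' P'.toExtension.Ring (algebraMap A A' a) :=
  h.hom.toExtensionHom.toRingHom_algebraMap a

lemma exists_lift_X (i : ι) : ∃ y : relMod P',
    jmap P' y = h.ringHom (varX P i) - h'.ringHom (varX P i) := by
  have hmem : h.ringHom (varX P i) - h'.ringHom (varX P i) ∈ LinearMap.range (jmap P') := by
    rw [range_jmap]
    change algebraMap P'.toExtension.Ring B' _ = 0
    rw [map_sub, h.algebraMap_ringHom, h'.algebraMap_ringHom, sub_self]
  exact hmem

/-- The lifts `y_i` of `φ x_i - φ' x_i`. -/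
def liftX (i : ι) : relMod P' := (exists_lift_X h h' i).choose

lemma jmap_liftX (i : ι) :
    jmap P' (liftX h h' i) = h.ringHom (varX P i) - h'.ringHom (varX P i) :=
  (exists_lift_X h h' i).choose_spec

/-- `r ↦ (φ r, D r)`. -/
def ev : P.toExtension.Ring →+* TW P' :=
  MvPolynomial.eval₂Hom ((TW.inl.comp (algebraMap A' P'.toExtension.Ring)).comp (algebraMap A A'))
    (fun i => ⟨h.ringHom (varX P i), Submodule.Quotient.mk (liftX h h' i)⟩)

lemma ev_X (i : ι) : ev h h' (varX P i) =
    ⟨h.ringHom (varX P i), Submodule.Quotient.mk (liftX h h' i)⟩ :=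
  MvPolynomial.eval₂Hom_X' _ _ i

lemma ev_C (a : A) : ev h h' (algebraMap A P.toExtension.Ring a) =
    TW.inl (algebraMap A' P'.toExtension.Ring (algebraMap A A' a)) :=
  MvPolynomial.eval₂Hom_C _ _ a

lemma pr_ev : (TW.pr : TW P' →+* _).comp (ev h h') = h.ringHom := by
  refine MvPolynomial.ringHom_ext (fun a => ?_) (fun i => ?_)
  · erw [RingHom.comp_apply, ev_C, ringHom_C]; rfl
  · erw [RingHom.comp_apply, ev_X]; rfl

lemma pr'_ev : (TW.pr' : TW P' →+* _).comp (ev h h') = h'.ringHom := by
  refine MvPolynomial.ringHom_ext (fun a => ?_) (fun i => ?_)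
  · erw [RingHom.comp_apply, ev_C, ringHom_C]
    change _ - jN P' 0 = _
    rw [map_zero, sub_zero]
    rfl
  · erw [RingHom.comp_apply, ev_X]
    change _ - jN P' (Submodule.Quotient.mk (liftX h h' i)) = _
    rw [jN_mk, jmap_liftX, sub_sub_cancel]
    rfl

/-- The twisted derivation. -/
def twD (r : P.toExtension.Ring) : NMod P' := (ev h h' r).snd

lemma ev_fst (r : P.toExtension.Ring) : (ev h h' r).fst = h.ringHom r :=
  RingHom.congr_fun (pr_ev h h') r

lemma jN_twD (r : P.toExtension.Ring) : jN P' (twD h h' r) = h.ringHom r - h'.ringHom r := by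
  have h1 : (ev h h' r).fst - jN P' (ev h h' r).snd = h'.ringHom r := RingHom.congr_fun (pr'_ev h h') r
  rw [← h1, ev_fst, sub_sub_cancel]; rfl

lemma twD_mul (a b : P.toExtension.Ring) : twD h h' (a * b) =
    h.ringHom a • twD h h' b + h.ringHom b • twD h h' a - jN P' (twD h h' a) • twD h h' b := by
  simp only [twD, map_mul, TW.mul_snd, ev_fst]

lemma twD_add (a b : P.toExtension.Ring) : twD h h' (a + b) = twD h h' a + twD h h' b := by
  simp [twD, TW.add_snd]

lemma twD_zero : twD h h' 0 = 0 := by simp [twD, TW.zero_snd]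

lemma twD_X (i : ι) : twD h h' (varX P i) = Submodule.Quotient.mk (liftX h h' i) := by
  simp [twD, ev_X]

lemma twD_C (a : A) : twD h h' (algebraMap A P.toExtension.Ring a) = 0 := by
  rw [twD, ev_C]; rfl

lemma exists_corr (s : σ) : ∃ z : relKer P',
    (Submodule.Quotient.mk (z : relMod P') : NMod P') =
      Submodule.Quotient.mk (h.relVal s) - Submodule.Quotient.mk (h'.relVal s) - twD h h' (rel P s) := by
  obtain ⟨z, hz⟩ := Submodule.Quotient.mk_surjective (trivRel P')
    (Submodule.Quotient.mk (h.relVal s) - Submodule.Quotient.mk (h'.relVal s) - twD h h' (rel P s))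
  refine ⟨⟨z, ?_⟩, hz⟩
  rw [relKer, LinearMap.mem_ker, ← jN_mk, hz, map_sub, map_sub, jN_mk, jN_mk, jN_twD, h.jmap_relVal,
    h'.jmap_relVal]
  exact sub_self _

/-- The homotopy on relations. -/
def corr (s : σ) : relKer P' := (exists_corr h h' s).choose

lemma corr_spec (s : σ) : (Submodule.Quotient.mk (corr h h' s : relMod P') : NMod P') =
      Submodule.Quotient.mk (h.relVal s) - Submodule.Quotient.mk (h'.relVal s) - twD h h' (rel P s) :=
  (exists_corr h h' s).choose_spec

/-- `F → Q'`, semilinear over `φ`. -/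
def corrMap : relMod P →ₛₗ[h.ringHom] relKer P' where
  toFun f := Finsupp.linearCombination P'.toExtension.Ring (corr h h')
    (Finsupp.mapRange h.ringHom (map_zero _) f)
  map_add' f g := by rw [Finsupp.mapRange_add (map_add _), map_add]
  map_smul' r f := by
    rw [← map_smul]
    congr 1
    ext s
    simp [Finsupp.mapRange_apply, map_mul]

lemma corrMap_single (s : σ) (r : P.toExtension.Ring) :
    corrMap h h' (Finsupp.single s r) = h.ringHom r • corr h h' s := by
  simp [corrMap]

lemma mk_sub_mk (f : relMod P) :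
    (Submodule.Quotient.mk (h.relModMap f) : NMod P') - Submodule.Quotient.mk (h'.relModMap f) =
      Submodule.Quotient.mk (corrMap h h' f : relMod P') + twD h h' (jmap P f) := by
  induction f using Finsupp.induction_linear with
  | zero => simp [twD_zero]
  | add f g hf hg =>
    simp only [map_add, Submodule.coe_add, Submodule.Quotient.mk_add, twD_add]
    rw [add_sub_add_comm, hf, hg, add_add_add_comm]
  | single s r =>
    rw [h.relModMap_single, h'.relModMap_single, corrMap_single, jmap_single, Submodule.coe_smul,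
      Submodule.Quotient.mk_smul, Submodule.Quotient.mk_smul, Submodule.Quotient.mk_smul, corr_spec,
      twD_mul]
    set u : NMod P' := Submodule.Quotient.mk (h.relVal s)
    set u' : NMod P' := Submodule.Quotient.mk (h'.relVal s) with hu'
    set a := twD h h' r with ha
    set b := twD h h' (rel P s) with hb
    have h1 : h'.ringHom r = h.ringHom r - jN P' a := by rw [ha, jN_twD, sub_sub_cancel]
    have h2 : h.ringHom (rel P s) = jN P' u' + jN P' b := by
      rw [hu', jN_mk, h'.jmap_relVal, hb, jN_twD, add_sub_cancel]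
    rw [h1, h2]
    exact tw_mul _ _ _ _ u u' a b (jN_smul_comm P' u' a) (jN_smul_comm P' b a)

lemma relModMap_sub_mem {q : relMod P} (hq : q ∈ relKer P) :
    h.relModMap q - h'.relModMap q - (corrMap h h' q : relMod P') ∈ trivRel P' := by
  rw [← Submodule.Quotient.mk_eq_zero, Submodule.Quotient.mk_sub, Submodule.Quotient.mk_sub, mk_sub_mk,
    show jmap P q = 0 from hq, twD_zero, add_zero, sub_self]

lemma one_tmul_surj (z : B ⊗[P.toExtension.Ring] relKer P) :
    ∃ q : relKer P, z = (1 : B) ⊗ₜ q := by
  obtain ⟨q, hq⟩ := TensorProduct.mk_surjective P.toExtension.Ring (relKer P) B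
    P.toExtension.algebraMap_surjective z
  exact ⟨q, hq.symm⟩

/-- The homotopy `L₁ → L₂'`. -/
def homotopy : L1 P →ₛₗ[(algebraMap B B' : B →+* B')] L2 P' where
  toFun z := Submodule.Quotient.mk (tensorMap h.ringHom h.algebraMap_ringHom (corrMap h h') z)
  map_add' x y := by rw [map_add, Submodule.Quotient.mk_add]
  map_smul' b x := by rw [LinearMap.map_smulₛₗ, Submodule.Quotient.mk_smul]

lemma L2map_sub (z : L2 P) : h.L2map z - h'.L2map z = homotopy h h' (d2 P z) := by
  induction z using Submodule.Quotient.induction_on with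
  | H z =>
  obtain ⟨q, rfl⟩ := one_tmul_surj z
  rw [h.L2map_mk_tmul, h'.L2map_mk_tmul, d2_mk_tmul, ← Submodule.Quotient.mk_sub]
  change _ = Submodule.Quotient.mk (tensorMap h.ringHom h.algebraMap_ringHom (corrMap h h') (1 ⊗ₜ (q : relMod P)))
  rw [tensorMap_tmul, Submodule.Quotient.eq]
  refine ⟨algebraMap B B' 1 ⊗ₜ ⟨h.relKerMap q - h'.relKerMap q - corrMap h h' q,
    relModMap_sub_mem h h' q.2⟩, ?_⟩
  rw [LinearMap.baseChange_tmul]
  change algebraMap B B' 1 ⊗ₜ (h.relKerMap q - h'.relKerMap q - corrMap h h' q) = _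
  exact (map_sub (TensorProduct.mk P'.toExtension.Ring B' (relKer P') (algebraMap B B' 1)) _ _).trans
    (congrArg (· - _) (map_sub (TensorProduct.mk P'.toExtension.Ring B' (relKer P') (algebraMap B B' 1)) _ _))

/-- `F'/F₀' → L₁'`. -/
def toL1 : NMod P' →ₗ[P'.toExtension.Ring] L1 P' :=
  Submodule.liftQ _ (TensorProduct.mk P'.toExtension.Ring B' (relMod P') 1)
    (fun y hy => one_tmul_eq_zero_of_mem_trivRel P' y hy)

@[simp] lemma toL1_mk (f : relMod P') : toL1 (P' := P') (Submodule.Quotient.mk f) = (1 : B') ⊗ₜ f := rfl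

lemma L0map_tmul_D (b : B) (r : P.toExtension.Ring) :
    h.L0map (b ⊗ₜ KaehlerDifferential.D A P.toExtension.Ring r) =
      algebraMap B B' b ⊗ₜ KaehlerDifferential.D A' P'.toExtension.Ring (h.ringHom r) := by
  rw [PresHom.L0map_apply]
  exact Algebra.Extension.CotangentSpace.map_tmul h.hom.toExtensionHom b r

lemma L0map_basis (i : ι) :
    h.L0map (P.cotangentSpaceBasis i) =
      (1 : B') ⊗ₜ KaehlerDifferential.D A' P'.toExtension.Ring (h.ringHom (varX P i)) := by
  rw [Algebra.Generators.cotangentSpaceBasis_apply, ← map_one (algebraMap B B')]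
  exact L0map_tmul_D h 1 (varX P i)

lemma L0map_sub_basis (i : ι) :
    h.L0map (P.cotangentSpaceBasis i) - h'.L0map (P.cotangentSpaceBasis i) =
      d1 P' ((1 : B') ⊗ₜ liftX h h' i) := by
  rw [L0map_basis, L0map_basis, d1_tmul, one_smul, jmap_liftX, map_sub, TensorProduct.tmul_sub]

variable (M' : Type m) [AddCommGroup M'] [Module B' M'] [Module B M'] [IsScalarTower B B' M']

theorem T0pull_eq : h.T0pull M' = h'.T0pull M' := by
  refine LinearMap.ext fun ψ => Subtype.ext (P.cotangentSpaceBasis.ext fun i => ?_)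
  change (ψ : L0 P' →ₗ[B'] M') (h.L0map (P.cotangentSpaceBasis i)) =
    (ψ : L0 P' →ₗ[B'] M') (h'.L0map (P.cotangentSpaceBasis i))
  rw [← sub_eq_zero, ← map_sub, L0map_sub_basis]
  exact LinearMap.congr_fun (show d1Star P' M' (ψ : L0 P' →ₗ[B'] M') = 0 from ψ.2) _

theorem T2pull_eq : h.T2pull M' = h'.T2pull M' := by
  refine LinearMap.ext fun x => ?_
  obtain ⟨ψ, rfl⟩ := Submodule.Quotient.mk_surjective _ x
  change (Submodule.Quotient.mk (h.pull2 M' ψ) : T2 P M') = Submodule.Quotient.mk (h'.pull2 M' ψ)
  rw [Submodule.Quotient.eq]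
  refine ⟨PresHom.linOfSemilinear M' (ψ.comp (homotopy h h')), LinearMap.ext fun z => ?_⟩
  change ψ (homotopy h h' (d2 P z)) = ψ (h.L2map z) - ψ (h'.L2map z)
  rw [← map_sub, L2map_sub]

theorem T1pull_eq : h.T1pull M' = h'.T1pull M' := by
  refine LinearMap.ext fun x => ?_
  obtain ⟨⟨ψ, hψ⟩, rfl⟩ := Submodule.Quotient.mk_surjective _ x
  change (Submodule.Quotient.mk (h.cocycles1Pull M' ⟨ψ, hψ⟩) : T1 P M') =
    Submodule.Quotient.mk (h'.cocycles1Pull M' ⟨ψ, hψ⟩)
  rw [Submodule.Quotient.eq]
  let θ : L0 P →ₗ[B] M' := P.cotangentSpaceBasis.constr B fun i => ψ ((1 : B') ⊗ₜ liftX h h' i)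
  have hθ : ∀ r : P.toExtension.Ring,
      θ ((1 : B) ⊗ₜ KaehlerDifferential.D A P.toExtension.Ring r) = ψ (toL1 (twD h h' r)) := by
    intro r
    induction r using ring_induction (P := P) with
    | hC a =>
      rw [twD_C, Derivation.map_algebraMap]
      simp
    | hadd p q hp hq => simp only [map_add, TensorProduct.tmul_add, twD_add, hp, hq]
    | hmul p i hp =>
      have hX : θ ((1 : B) ⊗ₜ KaehlerDifferential.D A P.toExtension.Ring (varX P i)) =
          ψ (toL1 (twD h h' (varX P i))) := by
        rw [twD_X, toL1_mk]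
        refine (congrArg θ (Algebra.Generators.cotangentSpaceBasis_apply (P := P.toGenerators) i).symm).trans ?_
        exact Module.Basis.constr_basis _ _ _ i
      rw [Derivation.leibniz, twD_mul, TensorProduct.tmul_add, TensorProduct.tmul_smul,
        TensorProduct.tmul_smul, ← algebraMap_smul B p, ← algebraMap_smul B (varX P i)]
      simp only [map_add, map_sub, map_smul]
      rw [hp, hX, ← algebraMap_smul B' (h.ringHom p), ← algebraMap_smul B' (h.ringHom (varX P i)),
        ← algebraMap_smul B' (jN P' (twD h h' p)), jN_twD, map_sub (algebraMap P'.toExtension.Ring B'),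
        h.algebraMap_ringHom, h.algebraMap_ringHom, h'.algebraMap_ringHom, sub_self, zero_smul, map_zero,
        sub_zero, map_smul, map_smul, IsScalarTower.algebraMap_smul B', IsScalarTower.algebraMap_smul B']
  refine ⟨θ, LinearMap.ext fun z => ?_⟩
  obtain ⟨f, rfl⟩ := TensorProduct.mk_surjective P.toExtension.Ring (relMod P) B
    P.toExtension.algebraMap_surjective z
  change θ (d1 P ((1 : B) ⊗ₜ f)) = ψ (h.L1map (1 ⊗ₜ f)) - ψ (h'.L1map (1 ⊗ₜ f))
  rw [d1_tmul, one_smul, hθ, h.L1map_tmul, h'.L1map_tmul, map_one, ← toL1_mk, ← toL1_mk, ← map_sub,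
    ← map_sub, mk_sub_mk, map_add, toL1_mk, map_add]
  have : ψ ((1 : B') ⊗ₜ ((corrMap h h' f : relKer P') : relMod P')) = 0 := by
    rw [← d2_mk_tmul]
    exact LinearMap.congr_fun (show d2Star P' M' ψ = 0 from hψ) _
  rw [this, zero_add]

section Comp

variable {A'' : Type u''} {B'' : Type v''} {ι'' : Type w''} {σ'' : Type t''}
variable [CommRing A''] [CommRing B''] [Algebra A'' B''] {P'' : Algebra.Presentation A'' B'' ι'' σ''}
variable [Algebra A' A''] [Algebra B' B''] [Algebra A' B''] [IsScalarTower A' A'' B''] [IsScalarTower A' B' B'']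
variable [Algebra A A''] [Algebra B B''] [Algebra A B''] [IsScalarTower A A'' B''] [IsScalarTower A B B'']
variable [IsScalarTower A A' A''] [IsScalarTower B B' B'']

/-- Composite of the variable assignments. -/
def compGen (g : PresHom P' P'') (f : PresHom P P') :
    Algebra.Generators.Hom P.toGenerators P''.toGenerators where
  val i := g.ringHom (f.ringHom (varX P i))
  aeval_val i := by
    rw [← algebraMap_toExtension P'', g.algebraMap_ringHom, f.algebraMap_ringHom,
      ← IsScalarTower.algebraMap_apply B B' B'']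
    congr 1
    rw [algebraMap_toExtension]
    exact MvPolynomial.aeval_X P.val i

lemma compGen_ringHom (g : PresHom P' P'') (f : PresHom P P') (r : P.toExtension.Ring) :
    (compGen g f).toExtensionHom.toRingHom r = g.ringHom (f.ringHom r) := by
  induction r using ring_induction (P := P) with
  | hC a =>
    rw [Algebra.Extension.Hom.toRingHom_algebraMap, ringHom_C f, ringHom_C g,
      ← IsScalarTower.algebraMap_apply A A' A'']
  | hadd p q hp hq => simp only [map_add, hp, hq]
  | hmul p i hp =>
    rw [map_mul, map_mul, map_mul, hp]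
    congr 1
    exact (compGen g f).toAlgHom_X i

/-- Composite of two morphisms of presentations. -/
def comp (g : PresHom P' P'') (f : PresHom P P') : PresHom P P'' where
  hom := compGen g f
  relVal s := g.relModMap (f.relVal s)
  jmap_relVal s := by
    rw [g.jmap_relModMap, f.jmap_relVal, compGen_ringHom]

lemma comp_ringHom (g : PresHom P' P'') (f : PresHom P P') (r : P.toExtension.Ring) :
    (comp g f).ringHom r = g.ringHom (f.ringHom r) :=
  compGen_ringHom g f r

lemma comp_relModMap (g : PresHom P' P'') (f : PresHom P P') (x : relMod P) :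
    (comp g f).relModMap x = g.relModMap (f.relModMap x) := by
  induction x using Finsupp.induction_linear with
  | zero => simp
  | add a b ha hb => simp only [map_add, ha, hb]
  | single s r =>
    rw [PresHom.relModMap_single, PresHom.relModMap_single, LinearMap.map_smulₛₗ, comp_ringHom]
    rfl

variable (M'' : Type m) [AddCommGroup M''] [Module B'' M''] [Module B' M''] [IsScalarTower B' B'' M'']
  [Module B M''] [IsScalarTower B B'' M''] [IsScalarTower B B' M'']

lemma comp_L1map (g : PresHom P' P'') (f : PresHom P P') (z : L1 P) :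
    (comp g f).L1map z = g.L1map (f.L1map z) := by
  induction z using TensorProduct.induction_on with
  | zero => simp
  | add a b ha hb => simp only [map_add, ha, hb]
  | tmul b x =>
    rw [PresHom.L1map_tmul, PresHom.L1map_tmul, PresHom.L1map_tmul, comp_relModMap,
      ← IsScalarTower.algebraMap_apply]

lemma comp_L2map (g : PresHom P' P'') (f : PresHom P P') (z : L2 P) :
    (comp g f).L2map z = g.L2map (f.L2map z) := by
  induction z using Submodule.Quotient.induction_on with
  | H z =>
  induction z using TensorProduct.induction_on with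
  | zero => simp
  | add a b ha hb => simp only [Submodule.Quotient.mk_add, map_add, ha, hb]
  | tmul b q =>
    rw [PresHom.L2map_mk_tmul, PresHom.L2map_mk_tmul, PresHom.L2map_mk_tmul,
      ← IsScalarTower.algebraMap_apply]
    congr 2
    exact Subtype.ext (comp_relModMap g f q)

lemma comp_L0map (g : PresHom P' P'') (f : PresHom P P') (i : ι) :
    (comp g f).L0map (P.cotangentSpaceBasis i) = g.L0map (f.L0map (P.cotangentSpaceBasis i)) := by
  rw [L0map_basis, L0map_basis, L0map_tmul_D, map_one, comp_ringHom]

theorem comp_T0pull (g : PresHom P' P'') (f : PresHom P P') (x : T0 P'' M'') :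
    ((comp g f).T0pull M'' x : L0 P →ₗ[B] M'') =
      PresHom.linOfSemilinear M'' ((g.T0pull M'' x : L0 P' →ₗ[B'] M'').comp f.L0map) := by
  refine P.cotangentSpaceBasis.ext fun i => ?_
  change (x : L0 P'' →ₗ[B''] M'') ((comp g f).L0map _) = (x : L0 P'' →ₗ[B''] M'') (g.L0map (f.L0map _))
  rw [comp_L0map]

theorem comp_T2pull (g : PresHom P' P'') (f : PresHom P P') (x : T2 P'' M'') :
    (comp g f).T2pull M'' x = f.T2pull M'' (g.T2pull M'' x) := by
  obtain ⟨ψ, rfl⟩ := Submodule.Quotient.mk_surjective _ x
  refine congrArg Submodule.Quotient.mk (LinearMap.ext fun z => ?_)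
  change ψ ((comp g f).L2map z) = ψ (g.L2map (f.L2map z))
  rw [comp_L2map]

theorem comp_T1pull (g : PresHom P' P'') (f : PresHom P P') (x : T1 P'' M'') :
    (comp g f).T1pull M'' x = f.T1pull M'' (g.T1pull M'' x) := by
  obtain ⟨ψ, rfl⟩ := Submodule.Quotient.mk_surjective _ x
  refine congrArg Submodule.Quotient.mk (Subtype.ext (LinearMap.ext fun z => ?_))
  change (ψ : L1 P'' →ₗ[B''] M'') ((comp g f).L1map z) = (ψ : L1 P'' →ₗ[B''] M'') (g.L1map (f.L1map z))
  rw [comp_L1map]

end Comp

/-- Some morphism of presentations over a square. -/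
def someHom (P : Algebra.Presentation A B ι σ) (P' : Algebra.Presentation A' B' ι' σ') :
    PresHom P P' where
  hom := Algebra.Generators.defaultHom _ _
  relVal s :=
    Classical.choose (show (Algebra.Generators.defaultHom P.toGenerators P'.toGenerators).toExtensionHom.toRingHom
        (rel P s) ∈ LinearMap.range (jmap P') by
      rw [range_jmap]
      change algebraMap P'.toExtension.Ring B' _ = 0
      rw [Algebra.Extension.Hom.algebraMap_toRingHom]
      erw [algebraMap_rel, map_zero])
  jmap_relVal s :=
    Classical.choose_spec (show (Algebra.Generators.defaultHom P.toGenerators P'.toGenerators).toExtensionHom.toRingHom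
        (rel P s) ∈ LinearMap.range (jmap P') by
      rw [range_jmap]
      change algebraMap P'.toExtension.Ring B' _ = 0
      rw [Algebra.Extension.Hom.algebraMap_toRingHom]
      erw [algebraMap_rel, map_zero])

end CotTLib
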