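import Groth.Agent.CotTLib.Homotopy

/-!
# Independence of the presentation
-/

set_option autoImplicit false
set_option maxHeartbeats 800000

universe u v w w' t t' m

open TensorProduct CotT

noncomputable section

namespace CotTLib

variable {A : Type u} {B : Type v} {ι : Type w} {σ : Type t} {ι' : Type w'} {σ' : Type t'}
variable [CommRing A] [CommRing B] [Algebra A B]
variable (P : Algebra.Presentation A B ι σ) (P' : Algebra.Presentation A B ι' σ')
variable (M : Type m) [AddCommGroup M] [Module B M]

lemma id_ringHom (r : P.toExtension.Ring) : (PresHom.id P).ringHom r = r := by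
  induction r using ring_induction (P := P) with
  | hC a => rw [ringHom_C]; simp
  | hadd p q hp hq => rw [map_add, hp, hq]
  | hmul p i hp => rw [map_mul, hp, ringHom_X]; rfl

lemma id_relModMap (f : relMod P) : (PresHom.id P).relModMap f = f := by
  induction f using Finsupp.induction_linear with
  | zero => simp
  | add a b ha hb => rw [map_add, ha, hb]
  | single s r =>
    rw [PresHom.relModMap_single, id_ringHom]
    change r • Finsupp.single s 1 = _
    rw [Finsupp.smul_single, smul_eq_mul, mul_one]

lemma id_T0pull (x : T0 P M) : (PresHom.id P).T0pull M x = x := by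
  refine Subtype.ext (P.cotangentSpaceBasis.ext fun i => ?_)
  change (x : L0 P →ₗ[B] M) ((PresHom.id P).L0map (P.cotangentSpaceBasis i)) = _
  rw [L0map_basis, id_ringHom, Algebra.Generators.cotangentSpaceBasis_apply]
  rfl

lemma id_T1pull (x : T1 P M) : (PresHom.id P).T1pull M x = x := by
  obtain ⟨ψ, rfl⟩ := Submodule.Quotient.mk_surjective _ x
  refine congrArg Submodule.Quotient.mk (Subtype.ext (LinearMap.ext fun z => ?_))
  change (ψ : L1 P →ₗ[B] M) ((PresHom.id P).L1map z) = (ψ : L1 P →ₗ[B] M) z
  congr 1
  induction z using TensorProduct.induction_on with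
  | zero => simp
  | add a b ha hb => rw [map_add, ha, hb]
  | tmul b f => rw [PresHom.L1map_tmul, id_relModMap, Algebra.algebraMap_self, RingHom.id_apply]

lemma id_T2pull (x : T2 P M) : (PresHom.id P).T2pull M x = x := by
  obtain ⟨ψ, rfl⟩ := Submodule.Quotient.mk_surjective _ x
  refine congrArg Submodule.Quotient.mk (LinearMap.ext fun z => ?_)
  change ψ ((PresHom.id P).L2map z) = ψ z
  congr 1
  induction z using Submodule.Quotient.induction_on with
  | H z =>
  induction z using TensorProduct.induction_on with
  | zero => simp
  | add a b ha hb => rw [Submodule.Quotient.mk_add, map_add, ha, hb]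
  | tmul b q =>
    rw [PresHom.L2map_mk_tmul, Algebra.algebraMap_self, RingHom.id_apply]
    congr 2
    exact Subtype.ext (id_relModMap P q)

variable {P P'}

/-- A morphism of presentations of the same algebra induces an isomorphism on `T⁰`. -/
def T0equiv (f : PresHom P P') (g : PresHom P' P) : T0 P' M ≃ₗ[B] T0 P M :=
  LinearEquiv.ofLinearMap (f.T0pull M) (g.T0pull M)
    (LinearMap.ext fun x => by
      have h1 : (comp g f).T0pull M x = (f.T0pull M) (g.T0pull M x) := Subtype.ext (comp_T0pull M g f x)
      rw [LinearMap.comp_apply, ← h1, T0pull_eq (comp g f) (PresHom.id P)]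
      exact id_T0pull P M x)
    (LinearMap.ext fun x => by
      have h1 : (comp f g).T0pull M x = (g.T0pull M) (f.T0pull M x) := Subtype.ext (comp_T0pull M f g x)
      rw [LinearMap.comp_apply, ← h1, T0pull_eq (comp f g) (PresHom.id P')]
      exact id_T0pull P' M x)

/-- A morphism of presentations of the same algebra induces an isomorphism on `T¹`. -/
def T1equiv (f : PresHom P P') (g : PresHom P' P) : T1 P' M ≃ₗ[B] T1 P M :=
  LinearEquiv.ofLinearMap (f.T1pull M) (g.T1pull M)
    (LinearMap.ext fun x => by
      rw [LinearMap.comp_apply, ← comp_T1pull, T1pull_eq (comp g f) (PresHom.id P)]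
      exact id_T1pull P M x)
    (LinearMap.ext fun x => by
      rw [LinearMap.comp_apply, ← comp_T1pull, T1pull_eq (comp f g) (PresHom.id P')]
      exact id_T1pull P' M x)

/-- A morphism of presentations of the same algebra induces an isomorphism on `T²`. -/
def T2equiv (f : PresHom P P') (g : PresHom P' P) : T2 P' M ≃ₗ[B] T2 P M :=
  LinearEquiv.ofLinearMap (f.T2pull M) (g.T2pull M)
    (LinearMap.ext fun x => by
      rw [LinearMap.comp_apply, ← comp_T2pull, T2pull_eq (comp g f) (PresHom.id P)]
      exact id_T2pull P M x)
    (LinearMap.ext fun x => by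
      rw [LinearMap.comp_apply, ← comp_T2pull, T2pull_eq (comp f g) (PresHom.id P')]
      exact id_T2pull P' M x)

variable (P P')

theorem T1pull_bijective (f : PresHom P P') : Function.Bijective (f.T1pull M) :=
  (T1equiv M f (someHom P' P)).bijective

theorem T2pull_bijective (f : PresHom P P') : Function.Bijective (f.T2pull M) :=
  (T2equiv M f (someHom P' P)).bijective

theorem T0pull_bijective (f : PresHom P P') : Function.Bijective (f.T0pull M) :=
  (T0equiv M f (someHom P' P)).bijective

theorem subsingleton_T1_iff : Subsingleton (T1 P M) ↔ Subsingleton (T1 P' M) :=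
  (T1equiv M (someHom P P') (someHom P' P)).toEquiv.subsingleton_congr.symm

theorem subsingleton_T2_iff : Subsingleton (T2 P M) ↔ Subsingleton (T2 P' M) :=
  (T2equiv M (someHom P P') (someHom P' P)).toEquiv.subsingleton_congr.symm

end CotTLib
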