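import Groth.Agent.CotTLib.Tower

/-!
# `T¹` and `T²` of a localization vanish: the standard presentation has no non-trivial relations
-/

set_option autoImplicit false
set_option maxHeartbeats 800000

universe u v m

open TensorProduct CotT

noncomputable section

namespace CotTLib

lemma mem_map_C_of_mul {R : Type*} [CommRing R] (J : Ideal R) (s : R) (p : Polynomial R)
    (h : p * (Polynomial.C s * Polynomial.X - 1) ∈ J.map Polynomial.C) : p ∈ J.map Polynomial.C := by
  rw [Ideal.mem_map_C_iff] at h ⊢
  intro k
  induction k with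
  | zero =>
    have := h 0
    simpa [mul_sub, Polynomial.mul_coeff_zero] using this
  | succ k ih =>
    have h1 := h (k + 1)
    rw [mul_sub, mul_one, ← mul_assoc, Polynomial.coeff_sub, Polynomial.coeff_mul_X, Polynomial.coeff_mul_C] at h1
    have := Ideal.sub_mem _ (Ideal.mul_mem_right s _ ih) h1
    rwa [sub_sub_cancel] at this

/-- The polynomials `s_i x_i - 1` in distinct variables form a regular sequence. -/
theorem isRegElem_localization {A : Type u} [CommRing A] {ι : Type v} {n : ℕ} (v : Fin n → ι)
    (hv : Function.Injective v) (c : Fin n → A) :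
    IsRegElem (fun i => (MvPolynomial.C (c i) * MvPolynomial.X (v i) - 1 : MvPolynomial ι A)) := by
  classical
  intro i x hx
  set a : Fin n → MvPolynomial ι A := fun i => MvPolynomial.C (c i) * MvPolynomial.X (v i) - 1 with ha
  let R' := MvPolynomial {j // j ≠ v i} A
  let e : MvPolynomial ι A ≃ₐ[A] Polynomial R' :=
    (MvPolynomial.renameEquiv A (Equiv.optionSubtypeNe (v i)).symm).trans (MvPolynomial.optionEquivLeft A _)
  have hC : ∀ r, e (MvPolynomial.C r) = Polynomial.C (MvPolynomial.C r) := fun r => by
    simp only [e, AlgEquiv.trans_apply, MvPolynomial.renameEquiv_apply, MvPolynomial.rename_C]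
    exact MvPolynomial.optionEquivLeft_C A _ r
  have hXi : e (MvPolynomial.X (v i)) = Polynomial.X := by
    simp only [e, AlgEquiv.trans_apply, MvPolynomial.renameEquiv_apply, MvPolynomial.rename_X, Equiv.optionSubtypeNe_symm_self]
    exact MvPolynomial.optionEquivLeft_X_none A _
  have hX : ∀ j, (h : j ≠ v i) → e (MvPolynomial.X j) = Polynomial.C (MvPolynomial.X ⟨j, h⟩) := fun j h => by
    simp only [e, AlgEquiv.trans_apply, MvPolynomial.renameEquiv_apply, MvPolynomial.rename_X, Equiv.optionSubtypeNe_symm_of_ne h]
    exact MvPolynomial.optionEquivLeft_X_some A _ _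
  have hlt : ∀ j : {j : Fin n // (j : ℕ) < i}, v j ≠ v i := fun j hj => by
    have h := j.2
    rw [hv hj] at h
    exact lt_irrefl _ h
  let b : {j : Fin n // (j : ℕ) < i} → R' := fun j =>
    MvPolynomial.C (c j) * MvPolynomial.X ⟨v j, hlt j⟩ - 1
  have hab : ∀ j, e (a j.1) = Polynomial.C (b j) := fun j => by
    simp only [a, b, map_sub, map_mul, map_one, hC, hX _ (hlt j)]
  have hpre : (pre a i).map (e : MvPolynomial ι A →+* Polynomial R') =
      (Ideal.span (Set.range b)).map Polynomial.C := by
    rw [pre, Ideal.map_span, Ideal.map_span]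
    congr 1
    ext y
    constructor
    · rintro ⟨_, ⟨j, hj, rfl⟩, rfl⟩
      exact ⟨b ⟨j, hj⟩, ⟨_, rfl⟩, (hab ⟨j, hj⟩).symm⟩
    · rintro ⟨_, ⟨j, rfl⟩, rfl⟩
      exact ⟨_, ⟨j.1, j.2, rfl⟩, hab j⟩
  have h1 : e (x * a i) ∈ (pre a i).map (e : MvPolynomial ι A →+* Polynomial R') := Ideal.mem_map_of_mem _ hx
  rw [hpre, map_mul, show e (a i) = Polynomial.C (MvPolynomial.C (c i)) * Polynomial.X - 1 by
    simp only [a, map_sub, map_mul, map_one, hC, hXi]] at h1
  have h2 := mem_map_C_of_mul _ _ _ h1
  rw [← hpre] at h2
  exact (Ideal.apply_mem_of_equiv_iff (f := e.toRingEquiv)).1 h2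

variable {A : Type u} {L : Type v} [CommRing A] [CommRing L] [Algebra A L] (M : Submonoid A)
  [IsLocalization M L]

/-- The standard presentation of a localization: a variable `x_s` and the relation `s x_s - 1` for each `s`. -/
def locPres : Algebra.Presentation A L M M where
  __ := Algebra.Generators.ofSurjective (fun s : M => IsLocalization.mk' L 1 s) (fun z => by
    obtain ⟨a, s, rfl⟩ := IsLocalization.exists_mk'_eq M z
    refine ⟨MvPolynomial.C a * MvPolynomial.X s, ?_⟩
    rw [map_mul, MvPolynomial.aeval_C, MvPolynomial.aeval_X]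
    simp [IsLocalization.mul_mk'_eq_mk'_of_mul])
  relation s := MvPolynomial.C (s : A) * MvPolynomial.X s - 1
  span_range_relation_eq_ker := by
    set val : M → L := fun s => IsLocalization.mk' L 1 s
    rw [Algebra.Generators.ker_eq_ker_aeval_val]
    change Ideal.span _ = RingHom.ker (MvPolynomial.aeval (R := A) val)
    refine le_antisymm (Ideal.span_le.2 ?_) fun x hx => ?_
    · rintro _ ⟨s, rfl⟩
      simp [val, IsLocalization.mul_mk'_eq_mk'_of_mul]
    · set J := Ideal.span (Set.range fun s : M => (MvPolynomial.C (s : A) * MvPolynomial.X s - 1 : MvPolynomial M A))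
      let π := Ideal.Quotient.mk J
      have hunit : ∀ s : M, π (MvPolynomial.C (s : A)) * π (MvPolynomial.X s) = 1 := fun s => by
        rw [← map_mul, ← sub_eq_zero, ← map_one π, ← map_sub, Ideal.Quotient.eq_zero_iff_mem]
        exact Ideal.subset_span ⟨s, rfl⟩
      let g : L →+* MvPolynomial M A ⧸ J :=
        IsLocalization.lift (M := M) (g := π.comp MvPolynomial.C)
          (fun s => IsUnit.of_mul_eq_one _ (hunit s))
      have hg : g.comp (MvPolynomial.aeval (R := A) val).toRingHom = π := by
        refine MvPolynomial.ringHom_ext (fun a => ?_) (fun s => ?_)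
        · simp [g]
        · have h1 : g (algebraMap A L s) * g (val s) = 1 := by
            rw [← map_mul]; simp [val, IsLocalization.mul_mk'_eq_mk'_of_mul]
          rw [IsLocalization.lift_eq] at h1
          have h2 : IsUnit (π (MvPolynomial.C (s : A))) := IsUnit.of_mul_eq_one _ (hunit s)
          simp only [RingHom.comp_apply, AlgHom.toRingHom_eq_coe, RingHom.coe_coe, MvPolynomial.aeval_X]
          exact h2.mul_left_cancel (h1.trans (hunit s).symm)
      rw [← Ideal.Quotient.eq_zero_iff_mem]
      change π x = 0
      rw [← hg]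
      simp [RingHom.mem_ker.1 hx]

theorem locPres_relKer_le : relKer (locPres (L := L) M) ≤ trivRel (locPres (L := L) M) := by
  classical
  intro q hq
  let w := q.support.equivFin
  let v : Fin q.support.card → M := fun i => (w.symm i).1
  have hv : Function.Injective v := Subtype.val_injective.comp w.symm.injective
  let q0 := Finsupp.comapDomain v q hv.injOn
  have hq0 : Finsupp.mapDomain v q0 = q := Finsupp.mapDomain_comapDomain v hv q (fun s hs => by
    exact ⟨w ⟨s, hs⟩, by simp [v]⟩)
  set a : Fin q.support.card → (locPres (L := L) M).toExtension.Ring := fun i => rel _ (v i)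
  have hreg : IsRegElem a := isRegElem_localization v hv (fun i => (v i : A))
  have h0 : Finsupp.linearCombination _ a q0 = 0 := by
    have hq' : jmap _ q = 0 := hq
    rw [← hq0, jmap, Finsupp.linearCombination_mapDomain] at hq'
    exact hq'
  rw [← hq0]
  refine (Submodule.span_le.2 ?_ : triv a _ ≤ (trivRel (locPres (L := L) M)).comap
    (Finsupp.lmapDomain _ _ v)) (mem_triv_top_of_reg a hreg h0)
  rintro _ ⟨g, -, h, -, rfl⟩
  rw [SetLike.mem_coe, Submodule.mem_comap, map_sub, map_smul, map_smul]
  refine Submodule.subset_span ⟨Finsupp.mapDomain v g, Finsupp.mapDomain v h, ?_⟩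
  rw [jmap, Finsupp.linearCombination_mapDomain, Finsupp.linearCombination_mapDomain]
  rfl

theorem subsingleton_T2_localization {A : Type u} {L : Type u} [CommRing A] [CommRing L] [Algebra A L]
    (M : Submonoid A) [IsLocalization M L] (N : Type m) [AddCommGroup N] [Module L N] :
    Subsingleton (T2 (canon A L) N) := by
  haveI := subsingleton_L2 (locPres (L := L) M) (locPres_relKer_le M)
  exact (subsingleton_T2_iff (canon A L) (locPres (L := L) M) N).2 (subsingleton_T2_of_L2 _ N)

end CotTLib
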