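import Groth.Agent.CotTLib.Tower

/-!
# The nine-term exact sequence of a composite presentation
-/

set_option autoImplicit false
set_option maxHeartbeats 1600000

universe u v w x y z s m

open TensorProduct CotT

noncomputable section

namespace CotTLib

variable {R : Type u} {S : Type v} {T : Type w}
variable [CommRing R] [CommRing S] [CommRing T] [Algebra R S] [Algebra S T] [Algebra R T]
variable [IsScalarTower R S T]
variable {ι : Type x} {σ : Type y} {ι' : Type z} {σ' : Type s}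
variable (Q : Algebra.Presentation S T ι' σ') (P : Algebra.Presentation R S ι σ)
variable (M : Type m) [AddCommGroup M] [Module T M] [Module S M] [IsScalarTower S T M]

theorem T0pull_out_injective : Function.Injective ((outHom Q P).T0pull M) := fun a b h =>
  Subtype.ext (pull0_injective Q P M (congrArg Subtype.val h))

theorem T0pull_exact : Function.Exact ((outHom Q P).T0pull M) ((inHom Q P).T0pull M) := by
  intro ψ
  constructor
  · intro h
    obtain ⟨φ, hφ⟩ := (pull0_exact Q P M ψ.1).1 (congrArg Subtype.val h)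
    refine ⟨⟨φ, ?_⟩, Subtype.ext hφ⟩
    rw [LinearMap.mem_ker]
    refine pull1_injective Q P M ?_
    rw [(outHom Q P).pull1_d1Star, hφ, map_zero]
    exact ψ.2
  · rintro ⟨φ, rfl⟩
    exact Subtype.ext ((pull0_exact Q P M).apply_apply_eq_zero φ.1)

theorem T1pull_exact : Function.Exact ((outHom Q P).T1pull M) ((inHom Q P).T1pull M) := by
  intro x
  obtain ⟨ψ, rfl⟩ := Submodule.Quotient.mk_surjective _ x
  constructor
  · intro h
    obtain ⟨w, hw⟩ := (Submodule.Quotient.mk_eq_zero _).1 h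
    obtain ⟨w', hw'⟩ := pull0_surjective Q P M w
    have h0 : (inHom Q P).pull1 M (ψ.1 - d1Star (Q.comp P) M w') = 0 := by
      rw [map_sub, (inHom Q P).pull1_d1Star, hw']
      exact sub_eq_zero.2 hw.symm
    obtain ⟨φ, hφ⟩ := (pull1_exact Q P M _).1 h0
    have hc : φ ∈ cocycles1 Q M := by
      rw [LinearMap.mem_ker]
      refine pull2_injective Q P M ?_
      rw [(outHom Q P).pull2_d2Star, hφ, map_zero, map_sub,
        show d2Star (Q.comp P) M ψ.1 = 0 from ψ.2, ← LinearMap.comp_apply, d2Star_comp_d1Star,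
        LinearMap.zero_apply, sub_zero]
    refine ⟨Submodule.Quotient.mk ⟨φ, hc⟩, (Submodule.Quotient.eq _).2 ⟨-w', ?_⟩⟩
    change d1Star (Q.comp P) M (-w') = (outHom Q P).pull1 M φ - ψ.1
    rw [hφ, map_neg, sub_sub_cancel_left]
  · rintro ⟨y, hy⟩
    obtain ⟨φ, rfl⟩ := Submodule.Quotient.mk_surjective _ y
    rw [← hy]
    refine (Submodule.Quotient.mk_eq_zero _).2 ⟨0, ?_⟩
    rw [map_zero]
    exact ((pull1_exact Q P M).apply_apply_eq_zero φ.1).symm

theorem T2pull_exact : Function.Exact ((outHom Q P).T2pull M) ((inHom Q P).T2pull M) := by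
  intro x
  obtain ⟨ψ, rfl⟩ := Submodule.Quotient.mk_surjective _ x
  constructor
  · intro h
    obtain ⟨w, hw⟩ := (Submodule.Quotient.mk_eq_zero _).1 h
    obtain ⟨w', hw'⟩ := pull1_surjective Q P M w
    have h0 : (inHom Q P).pull2 M (ψ - d2Star (Q.comp P) M w') = 0 := by
      rw [map_sub, (inHom Q P).pull2_d2Star, hw']
      exact sub_eq_zero.2 hw.symm
    obtain ⟨φ, hφ⟩ := (pull2_exact Q P M _).1 h0
    refine ⟨Submodule.Quotient.mk φ, (Submodule.Quotient.eq _).2 ⟨-w', ?_⟩⟩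
    change d2Star (Q.comp P) M (-w') = (outHom Q P).pull2 M φ - ψ
    rw [hφ, map_neg, sub_sub_cancel_left]
  · rintro ⟨y, hy⟩
    obtain ⟨φ, rfl⟩ := Submodule.Quotient.mk_surjective _ y
    rw [← hy]
    refine (Submodule.Quotient.mk_eq_zero _).2 ⟨0, ?_⟩
    rw [map_zero]
    exact ((pull2_exact Q P M).apply_apply_eq_zero φ).symm

lemma exists_pre0 (φ : T0 P M) : ∃ (a : L0 (Q.comp P) →ₗ[T] M) (b : L1 Q →ₗ[T] M),
    (inHom Q P).pull0 M a = φ.1 ∧ (outHom Q P).pull1 M b = d1Star (Q.comp P) M a := by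
  obtain ⟨a, ha⟩ := pull0_surjective Q P M φ.1
  obtain ⟨b, hb⟩ := (pull1_exact Q P M (d1Star (Q.comp P) M a)).1 (by
    rw [(inHom Q P).pull1_d1Star, ha]; exact φ.2)
  exact ⟨a, b, ha, hb⟩

lemma pre0_cocycle {a : L0 (Q.comp P) →ₗ[T] M} {b : L1 Q →ₗ[T] M}
    (hb : (outHom Q P).pull1 M b = d1Star (Q.comp P) M a) : b ∈ cocycles1 Q M := by
  rw [LinearMap.mem_ker]
  refine pull2_injective Q P M ?_
  rw [(outHom Q P).pull2_d2Star, hb, map_zero, ← LinearMap.comp_apply, d2Star_comp_d1Star,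
    LinearMap.zero_apply]

/-- Raw first connecting map. -/
def delta0Fun (φ : T0 P M) : T1 Q M :=
  Submodule.Quotient.mk ⟨(exists_pre0 Q P M φ).choose_spec.choose,
    pre0_cocycle Q P M (exists_pre0 Q P M φ).choose_spec.choose_spec.2⟩

lemma delta0Fun_eq (φ : T0 P M) {a : L0 (Q.comp P) →ₗ[T] M} {b : L1 Q →ₗ[T] M} (hb' : b ∈ cocycles1 Q M)
    (ha : (inHom Q P).pull0 M a = φ.1) (hb : (outHom Q P).pull1 M b = d1Star (Q.comp P) M a) :
    delta0Fun Q P M φ = Submodule.Quotient.mk ⟨b, hb'⟩ := by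
  have key : ∀ (a0 : L0 (Q.comp P) →ₗ[T] M) (b0 : L1 Q →ₗ[T] M) (h0 : b0 ∈ cocycles1 Q M),
      (inHom Q P).pull0 M a0 = φ.1 → (outHom Q P).pull1 M b0 = d1Star (Q.comp P) M a0 →
      (Submodule.Quotient.mk ⟨b0, h0⟩ : T1 Q M) = Submodule.Quotient.mk ⟨b, hb'⟩ := by
    intro a0 b0 h0 h1 h2
    obtain ⟨c, hc⟩ := (pull0_exact Q P M (a0 - a)).1 (by rw [map_sub, h1, ha, sub_self])
    rw [Submodule.Quotient.eq]
    refine ⟨c, pull1_injective Q P M ?_⟩
    rw [(outHom Q P).pull1_d1Star, hc, map_sub, ← h2, ← hb, ← map_sub]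
    rfl
  exact key _ _ _ (exists_pre0 Q P M φ).choose_spec.choose_spec.1
    (exists_pre0 Q P M φ).choose_spec.choose_spec.2

/-- First connecting map. -/
def delta0 : T0 P M →+ T1 Q M := AddMonoidHom.mk' (delta0Fun Q P M) fun x y => by
  obtain ⟨a, b, ha, hb⟩ := exists_pre0 Q P M x
  obtain ⟨a', b', ha', hb'⟩ := exists_pre0 Q P M y
  rw [delta0Fun_eq Q P M (x + y) (Submodule.add_mem _ (pre0_cocycle Q P M hb) (pre0_cocycle Q P M hb'))
      (a := a + a') (b := b + b') (by rw [map_add, ha, ha']; rfl) (by rw [map_add, hb, hb', map_add]),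
    delta0Fun_eq Q P M x (pre0_cocycle Q P M hb) ha hb,
    delta0Fun_eq Q P M y (pre0_cocycle Q P M hb') ha' hb']
  rfl

theorem T0pull_delta0_exact : Function.Exact ((inHom Q P).T0pull M) (delta0 Q P M) := by
  intro φ
  obtain ⟨a, b, ha, hb⟩ := exists_pre0 Q P M φ
  change delta0Fun Q P M φ = 0 ↔ _
  rw [delta0Fun_eq Q P M φ (pre0_cocycle Q P M hb) ha hb, Submodule.Quotient.mk_eq_zero]
  constructor
  · rintro ⟨w, hw⟩
    refine ⟨⟨a - (outHom Q P).pull0 M w, ?_⟩, Subtype.ext ?_⟩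
    · rw [LinearMap.mem_ker, map_sub, ← (outHom Q P).pull1_d1Star,
        show d1Star Q M w = b from hw, hb, sub_self]
    · change (inHom Q P).pull0 M (a - _) = φ.1
      rw [map_sub, ha, (pull0_exact Q P M).apply_apply_eq_zero, sub_zero]
  · rintro ⟨a', ha'⟩
    obtain ⟨c, hc⟩ := (pull0_exact Q P M (a - a'.1)).1 (by
      rw [map_sub, ha, ← ha']; exact sub_self _)
    refine ⟨c, pull1_injective Q P M ?_⟩
    rw [(outHom Q P).pull1_d1Star, hc, map_sub, show d1Star (Q.comp P) M a'.1 = 0 from a'.2, sub_zero]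
    exact hb.symm

theorem delta0_T1pull_exact : Function.Exact (delta0 Q P M) ((outHom Q P).T1pull M) := by
  intro x
  obtain ⟨b, rfl⟩ := Submodule.Quotient.mk_surjective _ x
  constructor
  · intro h
    obtain ⟨a, ha⟩ := (Submodule.Quotient.mk_eq_zero _).1 h
    have ha' : d1Star (Q.comp P) M a = (outHom Q P).pull1 M b.1 := ha
    refine ⟨⟨(inHom Q P).pull0 M a, ?_⟩, delta0Fun_eq Q P M _ b.2 (a := a) rfl ha'.symm⟩
    rw [LinearMap.mem_ker, ← (inHom Q P).pull1_d1Star, ha', (pull1_exact Q P M).apply_apply_eq_zero]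
  · rintro ⟨φ, hφ⟩
    obtain ⟨a, b', ha, hb⟩ := exists_pre0 Q P M φ
    rw [← hφ]
    change (outHom Q P).T1pull M (delta0Fun Q P M φ) = 0
    rw [delta0Fun_eq Q P M φ (pre0_cocycle Q P M hb) ha hb]
    exact (Submodule.Quotient.mk_eq_zero _).2 ⟨a, hb.symm⟩

lemma exists_pre1 (φ : cocycles1 P M) : ∃ (a : L1 (Q.comp P) →ₗ[T] M) (b : L2 Q →ₗ[T] M),
    (inHom Q P).pull1 M a = φ.1 ∧ (outHom Q P).pull2 M b = d2Star (Q.comp P) M a := by
  obtain ⟨a, ha⟩ := pull1_surjective Q P M φ.1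
  obtain ⟨b, hb⟩ := (pull2_exact Q P M (d2Star (Q.comp P) M a)).1 (by
    rw [(inHom Q P).pull2_d2Star, ha]; exact φ.2)
  exact ⟨a, b, ha, hb⟩

/-- Raw second connecting map. -/
def delta1Pre (φ : cocycles1 P M) : T2 Q M :=
  Submodule.Quotient.mk (exists_pre1 Q P M φ).choose_spec.choose

lemma delta1Pre_eq (φ : cocycles1 P M) {a : L1 (Q.comp P) →ₗ[T] M} {b : L2 Q →ₗ[T] M}
    (ha : (inHom Q P).pull1 M a = φ.1) (hb : (outHom Q P).pull2 M b = d2Star (Q.comp P) M a) :
    delta1Pre Q P M φ = Submodule.Quotient.mk b := by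
  have key : ∀ (a0 : L1 (Q.comp P) →ₗ[T] M) (b0 : L2 Q →ₗ[T] M),
      (inHom Q P).pull1 M a0 = φ.1 → (outHom Q P).pull2 M b0 = d2Star (Q.comp P) M a0 →
      (Submodule.Quotient.mk b0 : T2 Q M) = Submodule.Quotient.mk b := by
    intro a0 b0 h1 h2
    obtain ⟨c, hc⟩ := (pull1_exact Q P M (a0 - a)).1 (by rw [map_sub, h1, ha, sub_self])
    rw [Submodule.Quotient.eq]
    refine ⟨c, pull2_injective Q P M ?_⟩
    rw [(outHom Q P).pull2_d2Star, hc, map_sub, ← h2, ← hb, ← map_sub]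
  exact key _ _ (exists_pre1 Q P M φ).choose_spec.choose_spec.1
    (exists_pre1 Q P M φ).choose_spec.choose_spec.2

/-- Second connecting map on cocycles. -/
def delta1Coc : cocycles1 P M →+ T2 Q M := AddMonoidHom.mk' (delta1Pre Q P M) fun x y => by
  obtain ⟨a, b, ha, hb⟩ := exists_pre1 Q P M x
  obtain ⟨a', b', ha', hb'⟩ := exists_pre1 Q P M y
  rw [delta1Pre_eq Q P M (x + y) (a := a + a') (b := b + b') (by rw [map_add, ha, ha']; rfl)
      (by rw [map_add, hb, hb', map_add]),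
    delta1Pre_eq Q P M x ha hb, delta1Pre_eq Q P M y ha' hb']
  rfl

lemma coboundaries_le_ker : (coboundaries1 P M).toAddSubgroup ≤ (delta1Coc Q P M).ker := by
  rintro φ ⟨w, hw⟩
  obtain ⟨w', hw'⟩ := pull0_surjective Q P M w
  change delta1Pre Q P M φ = 0
  rw [delta1Pre_eq Q P M φ (a := d1Star (Q.comp P) M w') (b := 0)]
  · rfl
  · rw [(inHom Q P).pull1_d1Star, hw']; exact hw
  · rw [map_zero, ← LinearMap.comp_apply, d2Star_comp_d1Star, LinearMap.zero_apply]

/-- Second connecting map. -/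
def delta1 : T1 P M →+ T2 Q M :=
  QuotientAddGroup.lift (coboundaries1 P M).toAddSubgroup (delta1Coc Q P M) (coboundaries_le_ker Q P M)

lemma delta1_mk (φ : cocycles1 P M) :
    delta1 Q P M (Submodule.Quotient.mk φ) = delta1Pre Q P M φ := rfl

theorem T1pull_delta1_exact : Function.Exact ((inHom Q P).T1pull M) (delta1 Q P M) := by
  intro x
  obtain ⟨φ, rfl⟩ := Submodule.Quotient.mk_surjective _ x
  obtain ⟨a, b, ha, hb⟩ := exists_pre1 Q P M φ
  rw [delta1_mk, delta1Pre_eq Q P M φ ha hb, Submodule.Quotient.mk_eq_zero]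
  constructor
  · rintro ⟨w, hw⟩
    refine ⟨Submodule.Quotient.mk ⟨a - (outHom Q P).pull1 M w, ?_⟩,
      congrArg Submodule.Quotient.mk (Subtype.ext ?_)⟩
    · rw [LinearMap.mem_ker, map_sub, ← (outHom Q P).pull2_d2Star, hw, hb, sub_self]
    · change (inHom Q P).pull1 M (a - _) = φ.1
      rw [map_sub, ha, (pull1_exact Q P M).apply_apply_eq_zero, sub_zero]
  · rintro ⟨y, hy⟩
    obtain ⟨a', rfl⟩ := Submodule.Quotient.mk_surjective _ y
    have h2 : delta1Pre Q P M φ = delta1Pre Q P M ((inHom Q P).cocycles1Pull M a') := by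
      rw [← delta1_mk, ← delta1_mk]
      exact congrArg _ hy.symm
    rw [delta1Pre_eq Q P M φ ha hb, delta1Pre_eq Q P M _ (a := a'.1) (b := 0) rfl
      (by rw [map_zero]; exact a'.2.symm)] at h2
    exact (Submodule.Quotient.mk_eq_zero _).1 h2

theorem delta1_T2pull_exact : Function.Exact (delta1 Q P M) ((outHom Q P).T2pull M) := by
  intro x
  obtain ⟨b, rfl⟩ := Submodule.Quotient.mk_surjective _ x
  constructor
  · intro h
    obtain ⟨a, ha⟩ := (Submodule.Quotient.mk_eq_zero _).1 h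
    refine ⟨Submodule.Quotient.mk ⟨(inHom Q P).pull1 M a, ?_⟩,
      delta1Pre_eq Q P M _ (a := a) rfl ha.symm⟩
    rw [LinearMap.mem_ker, ← (inHom Q P).pull2_d2Star, ha, (pull2_exact Q P M).apply_apply_eq_zero]
  · rintro ⟨y, hy⟩
    obtain ⟨φ, rfl⟩ := Submodule.Quotient.mk_surjective _ y
    obtain ⟨a, b', ha, hb⟩ := exists_pre1 Q P M φ
    rw [← hy, delta1_mk, delta1Pre_eq Q P M φ ha hb]
    exact (Submodule.Quotient.mk_eq_zero _).2 ⟨a, hb.symm⟩

end CotTLib
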