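import Mathlib.RingTheory.Smooth.Basic
import Mathlib.RingTheory.Smooth.Locus
import Mathlib.RingTheory.FinitePresentation
import Mathlib.RingTheory.Localization.Away.Basic
import Mathlib.Algebra.MvPolynomial.Derivation
import Mathlib.Algebra.Algebra.Subalgebra.Lattice

/-!
# Formal smoothness up to an element

`Weak A B a`: every square-zero extension of `B` splits after multiplying its class by `a`, expressed
through a derivation of the extension restricting to `a` on the kernel.
-/

set_option autoImplicit false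

universe u

noncomputable section

namespace CotTLib

/-- Every square-zero extension `p : E → B` has a derivation with values in the kernel restricting to
multiplication by `a` on the kernel. -/
def Weak (A B : Type u) [CommRing A] [CommRing B] [Algebra A B] (a : A) : Prop :=
  ∀ (E : Type u) [CommRing E] [Algebra A E] (p : E →ₐ[A] B), Function.Surjective p →
    (∀ x y, p x = 0 → p y = 0 → x * y = 0) →
    ∃ D : Derivation A E E, (∀ e, p (D e) = 0) ∧ ∀ j, p j = 0 → D j = a • j

variable {A B : Type u} [CommRing A] [CommRing B] [Algebra A B]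

lemma quot_sq_mul {Q : Type u} [CommRing Q] [Algebra A Q] (q : Q →ₐ[A] B)
    (x y : Q ⧸ RingHom.ker q.toRingHom ^ 2) (hx : q.kerSquareLift x = 0) (hy : q.kerSquareLift y = 0) :
    x * y = 0 := by
  obtain ⟨x, rfl⟩ := Ideal.Quotient.mk_surjective x
  obtain ⟨y, rfl⟩ := Ideal.Quotient.mk_surjective y
  rw [← map_mul, Ideal.Quotient.eq_zero_iff_mem, pow_two]
  exact Ideal.mul_mem_mul hx hy

/-- It suffices to treat the universal extension of a polynomial presentation. -/
theorem weak_of_univ {ι : Type u} (q : MvPolynomial ι A →ₐ[A] B) (hq : Function.Surjective q) (a : A)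
    (D : Derivation A (MvPolynomial ι A) (MvPolynomial ι A ⧸ RingHom.ker q.toRingHom ^ 2))
    (hD0 : ∀ r, q.kerSquareLift (D r) = 0)
    (hD : ∀ r, q r = 0 → D r = Ideal.Quotient.mk _ (a • r)) :
    Weak A B a := by
  intro E _ _ p hp hsq
  choose s hs using hp
  let φ : MvPolynomial ι A →ₐ[A] E := MvPolynomial.aeval fun i => s (q (MvPolynomial.X i))
  have hφ : ∀ r, p (φ r) = q r := fun r => DFunLike.congr_fun (show p.comp φ = q from
    MvPolynomial.algHom_ext fun i => by
      rw [AlgHom.comp_apply, MvPolynomial.aeval_X, hs]) r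
  let φb : (MvPolynomial ι A ⧸ RingHom.ker q.toRingHom ^ 2) →ₐ[A] E :=
    Ideal.Quotient.liftₐ _ φ (fun r hr => by
      rw [pow_two] at hr
      refine Submodule.mul_induction_on hr (fun x hx y hy => ?_) (fun x y hx hy => by rw [map_add, hx, hy, add_zero])
      rw [map_mul]
      exact hsq _ _ ((hφ x).trans hx) ((hφ y).trans hy))
  have hφb : ∀ x, p (φb x) = q.kerSquareLift x := fun x => by
    obtain ⟨x, rfl⟩ := Ideal.Quotient.mk_surjective x
    exact hφ x
  have hφm : ∀ r, φb (Ideal.Quotient.mk _ r) = φ r := fun r => rfl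
  let F : E → MvPolynomial ι A → E := fun e r => φb (D r) + a • (e - φ r)
  have key : ∀ e r r', q r = p e → q r' = p e → F e r = F e r' := by
    intro e r r' h h'
    have := hD (r - r') (by rw [map_sub, h, h', sub_self])
    have h2 := congrArg φb this
    rw [hφm, map_sub, map_sub, map_smul, map_sub] at h2
    change φb (D r) + a • (e - φ r) = φb (D r') + a • (e - φ r')
    rw [smul_sub, smul_sub, sub_eq_iff_eq_add.1 h2, smul_sub]
    abel
  choose r hr using fun e => hq (p e)
  have hF : ∀ e r', q r' = p e → F e (r e) = F e r' := fun e r' h => key e _ _ (hr e) h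
  let L : E →ₗ[A] E :=
    { toFun := fun e => F e (r e)
      map_add' := fun x y => by
        rw [hF (x + y) (r x + r y) (by rw [map_add, map_add, hr, hr])]
        simp only [F, map_add, smul_sub, smul_add]
        abel
      map_smul' := fun c x => by
        rw [hF (c • x) (c • r x) (by rw [map_smul, map_smul, hr]), RingHom.id_apply]
        simp only [F, map_smul, Derivation.map_smul, smul_add, smul_sub]
        rw [smul_comm a c x, smul_comm a c (φ (r x))] }
  refine ⟨Derivation.mk' L fun x y => ?_, fun e => ?_, fun j hj => ?_⟩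
  · change F (x * y) (r (x * y)) = x • F y (r y) + y • F x (r x)
    rw [hF (x * y) (r x * r y) (by rw [map_mul, map_mul, hr, hr])]
    have hkey : ∀ u v, p u = 0 → p v = 0 → u * v = 0 := hsq
    simp only [F, map_add, Derivation.leibniz, Algebra.smul_def, Ideal.Quotient.algebraMap_eq,
      map_mul, hφm, Algebra.algebraMap_self, RingHom.id_apply]
    have hjx : p (x - φ (r x)) = 0 := by rw [map_sub, hφ, hr, sub_self]
    have hjy : p (y - φ (r y)) = 0 := by rw [map_sub, hφ, hr, sub_self]
    have e1 := hkey _ _ hjx hjy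
    have e2 := hkey _ _ hjx ((hφb (D (r y))).trans (hD0 _))
    have e3 := hkey _ _ hjy ((hφb (D (r x))).trans (hD0 _))
    linear_combination (-(algebraMap A E a)) * e1 - e2 - e3
  · change p (F e (r e)) = 0
    simp only [F, map_add, map_smul, map_sub, hφb, hD0, hφ, hr, sub_self, smul_zero, add_zero]
  · change F j (r j) = a • j
    rw [hF j 0 (by rw [map_zero, hj])]
    simp only [F, map_zero, sub_zero, zero_add]

/-- If `B[1/t]` is formally smooth over `A`, then `B` is formally smooth up to a power of `t`. -/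
theorem exists_weak_pow [Algebra.FinitePresentation A B] (t : A)
    [Algebra.FormallySmooth A (Localization.Away (algebraMap A B t))] :
    ∃ n : ℕ, Weak A B (t ^ n) := by
  obtain ⟨n, q0, hq0⟩ := Algebra.FiniteType.iff_quotient_mvPolynomial''.1
    (inferInstance : Algebra.FiniteType A B)
  let ι := ULift.{u} (Fin n)
  let q : MvPolynomial ι A →ₐ[A] B := q0.comp (MvPolynomial.rename (R := A) ULift.down)
  have hq : Function.Surjective q := hq0.comp (MvPolynomial.rename_surjective _ ULift.down_surjective)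
  haveI : Algebra.FinitePresentation A (MvPolynomial ι A) := inferInstance
  have hfg := Algebra.FinitePresentation.ker_fG_of_surjective q hq
  let I : Ideal (MvPolynomial ι A) := RingHom.ker q.toRingHom
  let E0 := MvPolynomial ι A ⧸ I ^ 2
  let π : E0 →ₐ[A] B := q.kerSquareLift
  have hπ : Function.Surjective π := fun b => by
    obtain ⟨r, rfl⟩ := hq b; exact ⟨Ideal.Quotient.mk _ r, rfl⟩
  let τ : E0 := algebraMap A E0 t
  let Es := Localization.Away τ
  let Bs := Localization.Away (algebraMap A B t)
  haveI : IsLocalization.Away (π τ) Bs := by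
    rw [show π τ = algebraMap A B t from π.commutes t]; infer_instance
  let πs : Es →ₐ[A] Bs := IsLocalization.Away.mapₐ Es Bs π τ
  have hπs : ∀ x, πs (algebraMap E0 Es x) = algebraMap B Bs (π x) := fun x => by
    simp [πs, IsLocalization.Away.map]
  have hu : ∀ k : ℕ, IsUnit (algebraMap E0 Es τ ^ k) := fun k =>
    (IsLocalization.Away.algebraMap_isUnit τ).pow k
  have hts : ∀ k : ℕ, πs (algebraMap E0 Es τ ^ k) = algebraMap B Bs (algebraMap A B t) ^ k := fun k => by
    rw [map_pow, hπs, π.commutes]
  -- elements in the kernel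
  have hker : ∀ z : Es, πs z = 0 → ∃ (y : E0) (k : ℕ), π y = 0 ∧
      z * algebraMap E0 Es τ ^ k = algebraMap E0 Es y := by
    intro z hz
    obtain ⟨k, y, hy⟩ := IsLocalization.Away.surj τ z
    have h := congrArg πs hy
    rw [map_mul, hz, zero_mul, hπs, eq_comm, IsLocalization.map_eq_zero_iff (.powers (algebraMap A B t))] at h
    obtain ⟨⟨_, l, rfl⟩, hl⟩ := h
    refine ⟨τ ^ l * y, l + k, ?_, ?_⟩
    · rw [map_mul, map_pow, π.commutes]; exact hl
    · rw [pow_add, mul_left_comm, map_mul, map_pow, hy]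
  have hsq : ∀ z w : Es, πs z = 0 → πs w = 0 → z * w = 0 := by
    intro z w hz hw
    obtain ⟨y, k, hy, hzy⟩ := hker z hz
    obtain ⟨y', k', hy', hwy⟩ := hker w hw
    refine ((hu k).mul (hu k')).mul_left_cancel ?_
    rw [mul_zero, mul_mul_mul_comm, mul_comm _ z, mul_comm _ w, hzy, hwy, ← map_mul,
      quot_sq_mul q y y' hy hy', map_zero]
  have hπs_surj : Function.Surjective πs := IsLocalization.Away.mapₐ_surjective_of_surjective τ hπ
  have hnil : IsNilpotent (RingHom.ker (πs : Es →+* Bs)) := ⟨2, by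
    refine (pow_two _).trans ?_
    refine eq_bot_iff.2 (Ideal.mul_le.2 fun x hx y hy => ?_)
    exact (Ideal.mem_bot).2 (hsq x y hx hy)⟩
  let σ : Bs →ₐ[A] Es := Algebra.FormallySmooth.liftOfSurjective (AlgHom.id A Bs) πs hπs_surj hnil
  have hσ : ∀ x, πs (σ x) = x := fun x =>
    Algebra.FormallySmooth.liftOfSurjective_apply (AlgHom.id A Bs) πs hπs_surj hnil x
  -- the derivation into `Es`
  let g : MvPolynomial ι A →ₐ[A] Es := (IsScalarTower.toAlgHom A E0 Es).comp (Ideal.Quotient.mkₐ A (I ^ 2))
  let g' : MvPolynomial ι A →ₐ[A] Es := σ.comp (πs.comp g)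
  have hd : ∀ r, πs (g r - g' r) = 0 := fun r => by
    rw [map_sub, sub_eq_zero]; exact (hσ _).symm
  choose y k hy hgy using fun i => hker _ (hd (MvPolynomial.X i))
  obtain ⟨N, hN⟩ : ∃ N, ∀ i, k i ≤ N := ⟨(Finset.univ : Finset ι).sup k, fun i => Finset.le_sup (Finset.mem_univ i)⟩
  let DQ : Derivation A (MvPolynomial ι A) E0 :=
    MvPolynomial.mkDerivation A fun i => τ ^ (N - k i) * y i
  have hDQ : ∀ r, π (DQ r) = 0 ∧ algebraMap E0 Es (DQ r) = (g r - g' r) * algebraMap E0 Es τ ^ N := by
    intro r
    induction r using MvPolynomial.induction_on with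
    | C c =>
      have : g (MvPolynomial.C c) = g' (MvPolynomial.C c) := (g.commutes c).trans (g'.commutes c).symm
      simp [DQ, this]
    | add x z hx hz => exact ⟨by rw [map_add, map_add, hx.1, hz.1, add_zero],
        by rw [map_add, map_add, hx.2, hz.2, map_add, map_add]; ring⟩
    | mul_X x i hx =>
      rw [Derivation.leibniz, show DQ (MvPolynomial.X i) = τ ^ (N - k i) * y i from
        MvPolynomial.mkDerivation_X A _ i]
      constructor
      · simp only [Algebra.smul_def, map_add, map_mul, hy, hx.1, mul_zero, add_zero]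
      · have h1 : algebraMap E0 Es (y i) = (g (MvPolynomial.X i) - g' (MvPolynomial.X i)) *
            algebraMap E0 Es τ ^ k i := (hgy i).symm
        have h2 : algebraMap E0 Es τ ^ N = algebraMap E0 Es τ ^ k i * algebraMap E0 Es τ ^ (N - k i) := by
          rw [← pow_add, Nat.add_sub_cancel' (hN i)]
        have h3 := hsq _ _ (hd x) (hd (MvPolynomial.X i))
        simp only [Algebra.smul_def, Ideal.Quotient.algebraMap_eq, map_add, map_mul, map_pow, h1, hx.2]
        change g x * _ + g (MvPolynomial.X i) * _ = _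
        rw [h2]
        linear_combination (algebraMap E0 Es τ ^ k i * algebraMap E0 Es τ ^ (N - k i)) * h3
  -- comparison with multiplication by a power of `t`
  have hlin : ∀ (s r : MvPolynomial ι A), r ∈ I →
      DQ (s * r) - t ^ N • Ideal.Quotient.mk (I ^ 2) (s * r) =
        Ideal.Quotient.mk (I ^ 2) s * (DQ r - t ^ N • Ideal.Quotient.mk (I ^ 2) r) := by
    intro s r hr
    rw [Derivation.leibniz, map_mul]
    simp only [Algebra.smul_def]
    rw [show algebraMap (MvPolynomial ι A) E0 = Ideal.Quotient.mk (I ^ 2) from rfl, quot_sq_mul q (Ideal.Quotient.mk (I ^ 2) r) (DQ s) hr (hDQ s).1, add_zero]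
    ring
  have hz : ∀ r, r ∈ I → algebraMap E0 Es (DQ r - t ^ N • Ideal.Quotient.mk (I ^ 2) r) = 0 := by
    intro r hr
    have hg' : g' r = 0 := by
      change σ (πs (algebraMap E0 Es (Ideal.Quotient.mk _ r))) = 0
      rw [hπs, show π (Ideal.Quotient.mk _ r) = q r from rfl, show q r = 0 from hr, map_zero, map_zero]
    rw [map_sub, (hDQ r).2, hg', sub_zero, Algebra.smul_def, map_mul, map_pow, map_pow,
      show g r = algebraMap E0 Es (Ideal.Quotient.mk (I ^ 2) r) from rfl]
    ring
  obtain ⟨S, hS⟩ := hfg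
  have hb : ∀ f : S, ∃ m : ℕ, τ ^ m * (DQ f.1 - t ^ N • Ideal.Quotient.mk (I ^ 2) f.1) = 0 := fun f => by
    obtain ⟨⟨_, m, rfl⟩, hm⟩ := (IsLocalization.map_eq_zero_iff (.powers τ) Es _).1
      (hz f.1 (hS.le (Ideal.subset_span f.2)))
    exact ⟨m, hm⟩
  choose m hm using hb
  let M := (Finset.univ : Finset S).sup m
  have hM : ∀ r ∈ I, τ ^ M * (DQ r - t ^ N • Ideal.Quotient.mk (I ^ 2) r) = 0 := by
    intro r hr
    rw [show I = Ideal.span (S : Set (MvPolynomial ι A)) from hS.symm] at hr
    refine Submodule.span_induction (fun f hf => ?_) ?_ (fun a b ha hb h1 h2 => ?_) (fun s a ha h1 => ?_) hr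
    · have hle : m ⟨f, hf⟩ ≤ M := Finset.le_sup (Finset.mem_univ _)
      rw [← Nat.sub_add_cancel hle, pow_add, mul_assoc, hm ⟨f, hf⟩, mul_zero]
    · simp
    · rw [map_add, map_add, smul_add, add_sub_add_comm, mul_add, h1, h2, add_zero]
    · rw [smul_eq_mul, hlin s a (hS.le ha), mul_left_comm, h1, mul_zero]
  refine ⟨M + N, weak_of_univ q hq _ (t ^ M • DQ) (fun r => ?_) fun r hr => ?_⟩
  · change π (t ^ M • DQ r) = 0
    rw [map_smul, (hDQ r).1, smul_zero]
  · change t ^ M • DQ r = Ideal.Quotient.mk (I ^ 2) (t ^ (M + N) • r)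
    rw [← Ideal.Quotient.mkₐ_eq_mk A, map_smul, Ideal.Quotient.mkₐ_eq_mk, pow_add, mul_smul, ← sub_eq_zero,
      ← smul_sub, Algebra.smul_def, map_pow]
    exact hM r hr

variable {B' : Type u} [CommRing B'] [Algebra A B']

/-- Descent of weak smoothness to a quotient killed by `s`. -/
theorem Weak.exists_derivation {a : A} (hw : Weak A B a) (g : B →ₐ[A] B')
    (hg : Function.Surjective g) (s : A)
    (hs : RingHom.ker g.toRingHom ≤ Ideal.span {algebraMap A B s})
    (E' : Type u) [CommRing E'] [Algebra A E'] (hs0 : algebraMap A E' s = 0) (p : E' →ₐ[A] B')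
    (hp : Function.Surjective p) (hsq : ∀ x y, p x = 0 → p y = 0 → x * y = 0) :
    ∃ D : Derivation A E' E', (∀ e, p (D e) = 0) ∧ ∀ j, p j = 0 → D j = a • j := by
  let F : Subalgebra A (E' × B) :=
    AlgHom.equalizer (p.comp (AlgHom.fst A E' B)) (g.comp (AlgHom.snd A E' B))
  let pr : F →ₐ[A] B := (AlgHom.snd A E' B).comp F.val
  have memF : ∀ {e : E'} {b : B}, (e, b) ∈ F ↔ p e = g b := fun {e b} => Iff.rfl
  obtain ⟨D, hD0, hD⟩ := hw F pr (fun b => by
      obtain ⟨e, he⟩ := hp (g b)
      exact ⟨⟨(e, b), he⟩, rfl⟩)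
    (fun x y hx hy => by
      refine Subtype.ext (Prod.ext (hsq _ _ ?_ ?_) ?_)
      · rw [show p x.1.1 = g x.1.2 from x.2, show x.1.2 = 0 from hx, map_zero]
      · rw [show p y.1.1 = g y.1.2 from y.2, show y.1.2 = 0 from hy, map_zero]
      · change x.1.2 * y.1.2 = 0
        rw [show x.1.2 = 0 from hx, zero_mul])
  choose b hb using fun e : E' => hg (p e)
  let lift : E' → F := fun e => ⟨(e, b e), (hb e).symm⟩
  have key : ∀ (z : F) (e : E'), z.1.1 = e → (D z).1.1 = (D (lift e)).1.1 := by
    intro z e he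
    obtain ⟨c, hc⟩ := Ideal.mem_span_singleton.1 (hs (show z.1.2 - b e ∈ RingHom.ker g.toRingHom by
      rw [RingHom.mem_ker]
      change g (z.1.2 - b e) = 0
      rw [map_sub, ← show p z.1.1 = g z.1.2 from z.2, he, hb, sub_self]))
    obtain ⟨ec, hec⟩ := hp (g c)
    have hz : z = lift e + s • (⟨(ec, c), hec⟩ : F) := by
      refine Subtype.ext (Prod.ext ?_ ?_)
      · change z.1.1 = e + s • ec
        rw [he, Algebra.smul_def, hs0, zero_mul, add_zero]
      · change z.1.2 = b e + s • c
        rw [Algebra.smul_def, ← hc, add_sub_cancel]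
    rw [hz, map_add, Derivation.map_smul]
    change (D (lift e)).1.1 + s • (D _).1.1 = _
    rw [Algebra.smul_def, hs0, zero_mul, add_zero]
  let L : E' →ₗ[A] E' :=
    { toFun := fun e => (D (lift e)).1.1
      map_add' := fun x y => by
        rw [← key (lift x + lift y) (x + y) rfl, map_add]; rfl
      map_smul' := fun c x => by
        rw [← key (c • lift x) (c • x) rfl, Derivation.map_smul]; rfl }
  refine ⟨Derivation.mk' L fun x y => ?_, fun e => ?_, fun j hj => ?_⟩
  · change (D (lift (x * y))).1.1 = x * (D (lift y)).1.1 + y * (D (lift x)).1.1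
    rw [← key (lift x * lift y) (x * y) rfl, Derivation.leibniz]; rfl
  · change p (D (lift e)).1.1 = 0
    rw [show p (D (lift e)).1.1 = g (D (lift e)).1.2 from (D (lift e)).2,
      show (D (lift e)).1.2 = 0 from hD0 _, map_zero]
  · let z : F := ⟨(j, 0), by rw [memF, hj, map_zero]⟩
    change (D (lift j)).1.1 = a • j
    rw [← key z j rfl, hD z rfl]
    rfl

/-- Conversely weak smoothness by a power of `t` gives formal smoothness after inverting `t`. -/
theorem Weak.formallySmooth_away {t : A} {n : ℕ} (hw : Weak A B (t ^ n)) :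
    Algebra.FormallySmooth A (Localization.Away (algebraMap A B t)) := by
  refine Algebra.FormallySmooth.of_comp_surjective fun C _ _ I hI f => ?_
  let ι := IsScalarTower.toAlgHom A B (Localization.Away (algebraMap A B t))
  have hmul : ∀ x ∈ I, ∀ y ∈ I, x * y = 0 := fun x hx y hy =>
    (Ideal.mem_bot).1 (hI ▸ pow_two I ▸ Ideal.mul_mem_mul hx hy)
  let F : Subalgebra A (C × B) :=
    AlgHom.equalizer ((Ideal.Quotient.mkₐ A I).comp (AlgHom.fst A C B)) ((f.comp ι).comp (AlgHom.snd A C B))
  let pr : F →ₐ[A] B := (AlgHom.snd A C B).comp F.val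
  have hF : ∀ z : F, pr z = 0 → z.1.1 ∈ I := fun z hz => by
    rw [← Ideal.Quotient.eq_zero_iff_mem]
    exact (z.2 : _ = f (ι z.1.2)).trans
      ((congrArg (fun b => f (ι b)) (show z.1.2 = 0 from hz)).trans (by rw [map_zero, map_zero]))
  have hprs : Function.Surjective pr := fun b => by
    obtain ⟨c, hc⟩ := Ideal.Quotient.mk_surjective (f (ι b))
    exact ⟨⟨(c, b), hc⟩, rfl⟩
  obtain ⟨D, hD0, hD⟩ := hw F pr hprs (fun x y hx hy => by
      refine Subtype.ext (Prod.ext (hmul _ (hF x hx) _ (hF y hy)) ?_)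
      change x.1.2 * y.1.2 = 0
      rw [show x.1.2 = 0 from hx, zero_mul])
  have htu : IsUnit (algebraMap A C t) := by
    have h2 : IsUnit (Ideal.Quotient.mk I (algebraMap A C t)) := by
      have := (IsLocalization.Away.algebraMap_isUnit (S := Localization.Away (algebraMap A B t))
        (algebraMap A B t)).map f
      rwa [show f (algebraMap B _ (algebraMap A B t)) = Ideal.Quotient.mk I (algebraMap A C t) from
        (congrArg f (ι.commutes t)).trans (f.commutes t)] at this
    obtain ⟨w', hw'⟩ := Ideal.Quotient.mk_surjective ((h2.unit⁻¹ : (C ⧸ I)ˣ) : C ⧸ I)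
    have h1 : algebraMap A C t * w' - 1 ∈ I := by
      rw [← Ideal.Quotient.eq_zero_iff_mem, map_sub, map_mul, hw', map_one, sub_eq_zero]
      exact h2.mul_val_inv
    have h3 : IsUnit (algebraMap A C t * w') := by
      rw [show algebraMap A C t * w' = (algebraMap A C t * w' - 1) + 1 by ring]
      exact IsNilpotent.isUnit_add_one ⟨2, by rw [pow_two]; exact hmul _ h1 _ h1⟩
    exact isUnit_of_mul_isUnit_left h3
  obtain ⟨u, hu⟩ := htu.pow n
  let σ0 : F → C := fun z => z.1.1 - (u⁻¹ : Cˣ) * (D z).1.1
  have hDI : ∀ z, (D z).1.1 ∈ I := fun z => hF _ (hD0 z)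
  have hc : ∀ a : A, σ0 (algebraMap A F a) = algebraMap A C a := fun a => by
    change (algebraMap A C a) - _ * (D (algebraMap A F a)).1.1 = _
    rw [Derivation.map_algebraMap]
    simp
  let σ1 : F →ₐ[A] C :=
    { toFun := σ0
      map_one' := (congrArg σ0 (map_one (algebraMap A F))).symm.trans ((hc 1).trans (map_one _))
      map_zero' := (congrArg σ0 (map_zero (algebraMap A F))).symm.trans ((hc 0).trans (map_zero _))
      map_add' := fun x y => by
        change x.1.1 + y.1.1 - _ * (D (x + y)).1.1 = _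
        rw [map_add]
        change x.1.1 + y.1.1 - _ * ((D x).1.1 + (D y).1.1) = _ + _
        simp only [σ0]; ring
      map_mul' := fun x y => by
        change x.1.1 * y.1.1 - _ * (D (x * y)).1.1 = _ * _
        rw [Derivation.leibniz]
        change _ - _ * (x.1.1 * (D y).1.1 + y.1.1 * (D x).1.1) = _
        have h := hmul _ (hDI x) _ (hDI y)
        simp only [σ0]
        linear_combination (-(((u⁻¹ : Cˣ) : C) * ((u⁻¹ : Cˣ) : C))) * h
      commutes' := hc }
  have hker : ∀ z : F, pr z = 0 → σ1 z = 0 := fun z hz => by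
    change z.1.1 - _ * (D z).1.1 = 0
    rw [hD z hz]
    change z.1.1 - _ * (t ^ n • z.1.1) = 0
    rw [Algebra.smul_def, map_pow, ← hu, ← mul_assoc, u.inv_mul, one_mul, sub_self]
  let σ : B →ₐ[A] C := AlgHom.liftOfSurjective pr hprs σ1 hker
  have hσ : ∀ z, σ (pr z) = σ1 z := AlgHom.liftOfSurjective_apply pr hprs σ1 hker
  have hσf : ∀ b, Ideal.Quotient.mk I (σ b) = f (ι b) := fun b => by
    obtain ⟨z, rfl⟩ := hprs b
    rw [hσ]
    change Ideal.Quotient.mk I (z.1.1 - _ * (D z).1.1) = _
    rw [map_sub, map_mul, Ideal.Quotient.eq_zero_iff_mem.2 (hDI z), mul_zero, sub_zero]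
    exact z.2
  have hunit : ∀ y : Submonoid.powers (algebraMap A B t), IsUnit (σ y.1) := by
    rintro ⟨_, k, rfl⟩
    rw [map_pow, AlgHom.commutes]
    exact IsUnit.pow k htu
  refine ⟨IsLocalization.liftAlgHom (M := Submonoid.powers (algebraMap A B t)) hunit, ?_⟩
  refine AlgHom.coe_ringHom_injective (IsLocalization.ringHom_ext (Submonoid.powers (algebraMap A B t)) ?_)
  refine RingHom.ext fun b => ?_
  change Ideal.Quotient.mk I (IsLocalization.liftAlgHom (M := Submonoid.powers (algebraMap A B t)) hunit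
    (algebraMap B _ b)) = f (algebraMap B _ b)
  rw [IsLocalization.liftAlgHom_apply, IsLocalization.lift_eq]
  exact hσf b

end CotTLib
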