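import Groth.Agent.CotTLib.Exal
import Groth.Agent.CotTLib.Weak
import Mathlib.RingTheory.Jacobson.Ring
import Mathlib.RingTheory.Polynomial.Basic
import Mathlib.FieldTheory.IsAlgClosed.Basic

/-!
# Rigid algebras: formal families are trivial; weak smoothness descends to the special fibre
-/

set_option autoImplicit false
set_option maxHeartbeats 1600000

universe u

open Polynomial

noncomputable section

namespace CotTLib

attribute [local instance] Exal.opModule Exal.isCentralScalar_opModule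

section Lift

variable {k B0 B : Type u} [CommRing k] [CommRing B0] [Algebra k B0] [CommRing B] [Algebra k B]
variable (τ : B) (e : (B ⧸ Ideal.span {τ}) ≃ₐ[k] B0)

/-- `σ` is a section of the special fibre modulo `τ ^ m`. -/
def IsSec (m : ℕ) (σ : B0 →ₐ[k] B ⧸ Ideal.span {τ ^ m}) : Prop :=
  ∀ b0 b, Ideal.Quotient.mk (Ideal.span {τ ^ m}) b = σ b0 →
    e (Ideal.Quotient.mk (Ideal.span {τ}) b) = b0

lemma span_pow_le {i j : ℕ} (h : i ≤ j) : Ideal.span {τ ^ j} ≤ Ideal.span {τ ^ i} := by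
  rw [Ideal.span_le, Set.singleton_subset_iff, SetLike.mem_coe, Ideal.mem_span_singleton]
  exact pow_dvd_pow τ h

/-- Reduction `B/τ^j → B/τ^i`. -/
def red {i j : ℕ} (h : i ≤ j) : (B ⧸ Ideal.span {τ ^ j}) →ₐ[k] B ⧸ Ideal.span {τ ^ i} :=
  Ideal.Quotient.factorₐ k (span_pow_le τ h)

lemma exists_isSec_succ [Subsingleton (CotT.T1 (CotT.canon k B0) B0)] (hτ : τ ∈ nonZeroDivisors B)
    {m : ℕ} (hm : 1 ≤ m) {σ : B0 →ₐ[k] B ⧸ Ideal.span {τ ^ m}} (hσ : IsSec τ e m σ) :
    ∃ σ' : B0 →ₐ[k] B ⧸ Ideal.span {τ ^ (m + 1)}, IsSec τ e (m + 1) σ' := by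
  let F : Subalgebra k (B0 × (B ⧸ Ideal.span {τ ^ (m + 1)})) :=
    AlgHom.equalizer (σ.comp (AlgHom.fst k _ _)) ((red τ (Nat.le_succ m)).comp (AlgHom.snd k _ _))
  let pr : F →ₐ[k] B0 := (AlgHom.fst k _ _).comp F.val
  obtain ⟨ℓ, hℓ⟩ : ∃ ℓ : B0 → B, ∀ z, e (Ideal.Quotient.mk (Ideal.span {τ}) (ℓ z)) = z :=
    (e.surjective.comp Ideal.Quotient.mk_surjective).hasRightInverse
  have hker : ∀ {b b' : B}, e (Ideal.Quotient.mk (Ideal.span {τ}) b) = e (Ideal.Quotient.mk (Ideal.span {τ}) b') →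
      Ideal.Quotient.mk (Ideal.span {τ ^ (m + 1)}) (τ ^ m * b) = Ideal.Quotient.mk _ (τ ^ m * b') := by
    intro b b' h
    obtain ⟨c, hc⟩ := Ideal.mem_span_singleton.1 (Ideal.Quotient.eq.1 (e.injective h))
    rw [Ideal.Quotient.eq, Ideal.mem_span_singleton]
    exact ⟨c, by rw [← mul_sub, hc, pow_succ, mul_assoc]⟩
  have hmem : ∀ b : B, ((0 : B0), Ideal.Quotient.mk (Ideal.span {τ ^ (m + 1)}) (τ ^ m * b)) ∈ F := fun b => by
    change σ 0 = Ideal.Quotient.mk (Ideal.span {τ ^ m}) (τ ^ m * b)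
    rw [map_zero, eq_comm, Ideal.Quotient.eq_zero_iff_mem, Ideal.mem_span_singleton]
    exact ⟨b, rfl⟩
  let i : B0 → F := fun z => ⟨_, hmem (ℓ z)⟩
  let X : Exal.Ext k B0 B0 :=
    { E := F
      proj := pr
      incl := AddMonoidHom.mk' i fun x y => Subtype.ext (Prod.ext (add_zero (0 : B0)).symm (by
        change Ideal.Quotient.mk _ (τ ^ m * ℓ (x + y)) =
          Ideal.Quotient.mk _ (τ ^ m * ℓ x) + Ideal.Quotient.mk _ (τ ^ m * ℓ y)
        rw [← map_add, ← mul_add]
        exact hker (by rw [map_add, map_add, hℓ, hℓ, hℓ])))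
      isExtension :=
        { proj_surjective := fun b0 => by
            obtain ⟨b, hb⟩ := Ideal.Quotient.mk_surjective (σ b0)
            exact ⟨⟨(b0, Ideal.Quotient.mk _ b), hb.symm⟩, rfl⟩
          incl_injective := fun x y h => by
            have h2 := congrArg (fun z : F => z.1.2) h
            obtain ⟨c, hc⟩ := Ideal.mem_span_singleton.1 (Ideal.Quotient.eq.1
              (h2 : Ideal.Quotient.mk _ (τ ^ m * ℓ x) = Ideal.Quotient.mk _ (τ ^ m * ℓ y)))
            rw [← mul_sub, pow_succ, mul_assoc] at hc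
            have hd := (mul_cancel_left_mem_nonZeroDivisors (pow_mem hτ m)).1 hc
            rw [← hℓ x, ← hℓ y]
            exact congrArg e (Ideal.Quotient.eq.2 (Ideal.mem_span_singleton.2 ⟨c, hd⟩))
          exact := fun z => by
            constructor
            · intro hz
              obtain ⟨b, hb⟩ := Ideal.Quotient.mk_surjective z.1.2
              have h0 : Ideal.Quotient.mk (Ideal.span {τ ^ m}) b = 0 := by
                have h1 : σ z.1.1 = red (k := k) τ (Nat.le_succ m) z.1.2 := z.2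
                rw [show z.1.1 = 0 from hz, map_zero, ← hb] at h1
                exact h1.symm
              obtain ⟨c, hc⟩ := Ideal.mem_span_singleton.1 (Ideal.Quotient.eq_zero_iff_mem.1 h0)
              refine ⟨e (Ideal.Quotient.mk _ c), Subtype.ext (Prod.ext hz.symm ?_)⟩
              change Ideal.Quotient.mk _ (τ ^ m * ℓ _) = z.1.2
              rw [← hb, hc]
              exact hker (hℓ _)
            · rintro ⟨w, rfl⟩
              rfl
          mul_incl := fun x z => Subtype.ext (Prod.ext (mul_zero x.1.1) (by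
            obtain ⟨b, hb⟩ := Ideal.Quotient.mk_surjective x.1.2
            change x.1.2 * Ideal.Quotient.mk _ (τ ^ m * ℓ z) = Ideal.Quotient.mk _ (τ ^ m * ℓ (x.1.1 • z))
            rw [← hb, ← map_mul, mul_left_comm]
            refine hker ?_
            rw [map_mul, map_mul, hℓ, hℓ, smul_eq_mul]
            congr 1
            refine hσ _ _ ?_
            have h1 : σ x.1.1 = red (k := k) τ (Nat.le_succ m) x.1.2 := x.2
            rw [← hb] at h1
            exact h1.symm)) } }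
  have hX : X.cl = (Exal.Ext.trivial k B0 B0).cl := (exalToT1_bijective (P := CotT.canon k B0) (M := B0)).1
    (Subsingleton.elim _ _)
  obtain ⟨f⟩ := Quotient.exact (s := Exal.Ext.setoid k B0 B0) hX
  let inl : B0 →ₐ[k] (Exal.Ext.trivial k B0 B0).E :=
    { toFun := fun b => (TrivSqZeroExt.inl b : TrivSqZeroExt B0 B0)
      map_one' := TrivSqZeroExt.inl_one _
      map_mul' := fun a b => TrivSqZeroExt.inl_mul _ a b
      map_zero' := TrivSqZeroExt.inl_zero _
      map_add' := fun a b => TrivSqZeroExt.inl_add _ a b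
      commutes' := fun _ => rfl }
  let s : B0 →ₐ[k] F := (f.toAlgEquiv.symm : (Exal.Ext.trivial k B0 B0).E →ₐ[k] X.E).comp inl
  have hs : ∀ b, pr (s b) = b := fun b => by
    have := f.symm.proj_apply (inl b)
    exact this
  refine ⟨((AlgHom.snd k _ _).comp F.val).comp s, fun b0 b hb => ?_⟩
  refine hσ b0 b ?_
  have h1 : σ (s b0).1.1 = red (k := k) τ (Nat.le_succ m) (s b0).1.2 := (s b0).2
  rw [show (s b0).1.1 = b0 from hs b0, show (s b0).1.2 = Ideal.Quotient.mk _ b from hb.symm] at h1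
  exact h1.symm

/-- All infinitesimal families with rigid special fibre are trivial. -/
theorem exists_isSec [Subsingleton (CotT.T1 (CotT.canon k B0) B0)] (hτ : τ ∈ nonZeroDivisors B) (m : ℕ) :
    ∃ σ : B0 →ₐ[k] B ⧸ Ideal.span {τ ^ (m + 1)}, IsSec τ e (m + 1) σ := by
  induction m with
  | zero =>
    have h : Ideal.span {τ ^ (0 + 1)} = Ideal.span {τ} := by rw [zero_add, pow_one]
    refine ⟨((Ideal.quotientEquivAlgOfEq k h.symm).toAlgHom).comp e.symm.toAlgHom, fun b0 b hb => ?_⟩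
    rw [← e.apply_symm_apply b0]
    refine congrArg e ?_
    have := congrArg (Ideal.quotientEquivAlgOfEq k h) hb
    simp only [AlgHom.comp_apply, AlgEquiv.coe_toAlgHom] at this
    rw [show (Ideal.quotientEquivAlgOfEq k h) ((Ideal.quotientEquivAlgOfEq k h.symm) (e.symm b0)) = e.symm b0 from by
      obtain ⟨c, hc⟩ := Ideal.Quotient.mk_surjective (e.symm b0)
      rw [← hc]; rfl] at this
    exact this
  | succ m ih =>
    obtain ⟨σ, hσ⟩ := ih
    exact exists_isSec_succ τ e hτ (Nat.le_add_left 1 m) hσ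

variable {τ e}

/-- The map `B0[X] → B/τ^m`. -/
def phi {m : ℕ} (σ : B0 →ₐ[k] B ⧸ Ideal.span {τ ^ m}) : B0[X] →ₐ[k] B ⧸ Ideal.span {τ ^ m} :=
  { Polynomial.eval₂RingHom σ.toRingHom (Ideal.Quotient.mk _ τ) with
    commutes' := fun c => by
      change Polynomial.eval₂ σ.toRingHom _ (C (algebraMap k B0 c)) = _
      rw [eval₂_C]
      exact σ.commutes c }

lemma phi_C {m : ℕ} (σ : B0 →ₐ[k] B ⧸ Ideal.span {τ ^ m}) (c : B0) : phi σ (C c) = σ c := eval₂_C _ _

lemma phi_X {m : ℕ} (σ : B0 →ₐ[k] B ⧸ Ideal.span {τ ^ m}) : phi σ X = Ideal.Quotient.mk _ τ :=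
  eval₂_X _ _

lemma phi_surjective {m : ℕ} {σ : B0 →ₐ[k] B ⧸ Ideal.span {τ ^ m}} (hσ : IsSec τ e m σ) :
    Function.Surjective (phi σ) := by
  have key : ∀ j, j ≤ m → ∀ y : B, ∃ f, ∃ d, phi σ f = Ideal.Quotient.mk _ (y + τ ^ j * d) := by
    intro j
    induction j with
    | zero => exact fun _ y => ⟨0, -y, by simp⟩
    | succ j ih =>
      intro hj y
      obtain ⟨f, d, hf⟩ := ih (Nat.le_of_succ_le hj) y
      obtain ⟨b, hb⟩ := Ideal.Quotient.mk_surjective (σ (e (Ideal.Quotient.mk _ d)))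
      obtain ⟨c, hc⟩ := Ideal.mem_span_singleton.1 (Ideal.Quotient.eq.1 (e.injective (hσ _ b hb)))
      refine ⟨f - C (e (Ideal.Quotient.mk _ d)) * X ^ j, -c, ?_⟩
      rw [map_sub, map_mul, map_pow, phi_C, phi_X, hf, ← hb, ← map_pow, ← map_mul, ← map_sub]
      congr 1
      linear_combination (-(τ ^ j)) * hc
  intro x
  obtain ⟨y, rfl⟩ := Ideal.Quotient.mk_surjective x
  obtain ⟨f, d, hf⟩ := key m le_rfl y
  exact ⟨f, hf.trans (Ideal.Quotient.eq.2 (Ideal.mem_span_singleton.2 ⟨d, by ring⟩))⟩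

lemma dvd_of_phi (hτ : τ ∈ nonZeroDivisors B) {m : ℕ} {σ : B0 →ₐ[k] B ⧸ Ideal.span {τ ^ m}}
    (hσ : IsSec τ e m σ) : ∀ j, j ≤ m → ∀ (f : B0[X]) (y d : B), phi σ f = Ideal.Quotient.mk _ y →
      y = τ ^ j * d → X ^ j ∣ f := by
  intro j
  induction j with
  | zero => exact fun _ f _ _ _ _ => by rw [pow_zero]; exact one_dvd f
  | succ j ih =>
    intro hj f y d hy hyd
    obtain ⟨b, hb⟩ := Ideal.Quotient.mk_surjective (σ (f.coeff 0))
    obtain ⟨g, hg⟩ := Ideal.Quotient.mk_surjective (phi σ f.divX)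
    have hf : phi σ f = Ideal.Quotient.mk _ (τ * g + b) := by
      conv_lhs => rw [← X_mul_divX_add f]
      rw [map_add, map_mul, phi_X, phi_C, ← hg, ← hb, map_add, map_mul]
    obtain ⟨c, hc⟩ := Ideal.mem_span_singleton.1 (Ideal.Quotient.eq.1 (hy.symm.trans hf))
    obtain ⟨m', rfl⟩ : ∃ m', m = m' + 1 := ⟨m - 1, (Nat.sub_add_cancel (by omega)).symm⟩
    have hc0 : f.coeff 0 = 0 := by
      rw [← hσ _ _ hb, ← map_zero e]
      refine congrArg e (Ideal.Quotient.eq_zero_iff_mem.2 (Ideal.mem_span_singleton.2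
        ⟨τ ^ j * d - g - τ ^ m' * c, ?_⟩))
      rw [hyd, pow_succ', pow_succ'] at hc
      linear_combination (-1 : B) * hc
    have h0 : Ideal.Quotient.mk (Ideal.span {τ ^ (m' + 1)}) b = 0 := by rw [hb, hc0, map_zero]
    obtain ⟨c', hc'⟩ := Ideal.mem_span_singleton.1 (Ideal.Quotient.eq_zero_iff_mem.1 h0)
    have hg' : g = τ ^ j * (d - τ ^ (m' - j) * (c + c')) := by
      refine (mul_cancel_left_mem_nonZeroDivisors hτ).1 ?_
      rw [hyd, hc'] at hc
      have : τ ^ (m' + 1) = τ * (τ ^ j * τ ^ (m' - j)) := by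
        rw [← pow_add, Nat.add_sub_cancel' (by omega), pow_succ']
      rw [this, pow_succ'] at hc
      linear_combination (-1 : B) * hc
    obtain ⟨h, hh⟩ := ih (Nat.le_of_succ_le hj) f.divX g _ hg.symm hg'
    refine ⟨h, ?_⟩
    conv_lhs => rw [← X_mul_divX_add f]
    rw [hc0, map_zero, add_zero, hh, pow_succ']
    ring

lemma phi_eq_zero_iff (hτ : τ ∈ nonZeroDivisors B) {m : ℕ} {σ : B0 →ₐ[k] B ⧸ Ideal.span {τ ^ m}}
    (hσ : IsSec τ e m σ) (f : B0[X]) : phi σ f = 0 ↔ X ^ m ∣ f := by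
  constructor
  · exact fun h => dvd_of_phi hτ hσ m le_rfl f 0 0 (by rw [h, map_zero]) (by simp)
  · rintro ⟨g, rfl⟩
    rw [map_mul, map_pow, phi_X, ← map_pow, Ideal.Quotient.eq_zero_iff_mem.2 (Ideal.mem_span_singleton_self _),
      zero_mul]

end Lift

variable {k A B0 B : Type u} [Field k] [IsAlgClosed k] [CommRing A] [IsDomain A] [Algebra k A]
variable [Algebra.FiniteType k A] [CommRing B0] [Algebra k B0] [Algebra.FiniteType k B0]
variable [CommRing B] [Algebra A B] [Algebra k B] [IsScalarTower k A B]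

/-- `A/t^m = k[X]/X^m`. -/
lemma exists_coord {t : A} (ht : (Ideal.span {t}).IsMaximal) (ht0 : t ≠ 0) {m : ℕ} (hm : 1 ≤ m) :
    ∃ α : A →ₐ[k] k[X] ⧸ Ideal.span {(X : k[X]) ^ m},
      (∀ a f, α a = Ideal.Quotient.mk _ f → Polynomial.aeval t f - a ∈ Ideal.span {t ^ m}) ∧
      α t = Ideal.Quotient.mk _ X := by
  haveI := ht
  letI : Field (A ⧸ Ideal.span {t}) := Ideal.Quotient.field _
  haveI : Algebra.FiniteType k (A ⧸ Ideal.span {t}) :=
    Algebra.FiniteType.of_surjective (Ideal.Quotient.mkₐ k _) (Ideal.Quotient.mkₐ_surjective k _)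
  haveI : Module.Finite k (A ⧸ Ideal.span {t}) := finite_of_finite_type_of_isJacobsonRing k _
  have hbij := IsAlgClosed.algebraMap_bijective_of_isIntegral (k := k) (K := A ⧸ Ideal.span {t})
  let e : (A ⧸ Ideal.span {t}) ≃ₐ[k] k := (AlgEquiv.ofBijective (Algebra.ofId k _) hbij).symm
  have hsec : IsSec t e m (Algebra.ofId k (A ⧸ Ideal.span {t ^ m})) := by
    intro c a ha
    have h1 : Ideal.Quotient.mk (Ideal.span {t}) a = algebraMap k _ c := by
      have h2 := Ideal.Quotient.eq.1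
        (ha : Ideal.Quotient.mk (Ideal.span {t ^ m}) a = Ideal.Quotient.mk _ (algebraMap k A c))
      exact Ideal.Quotient.eq.2 (by simpa using span_pow_le t hm h2)
    rw [h1]
    exact e.commutes c
  let π := phi (Algebra.ofId k (A ⧸ Ideal.span {t ^ m}))
  have hker : RingHom.ker π.toRingHom = Ideal.span {(X : k[X]) ^ m} := Ideal.ext fun f => by
    rw [Ideal.mem_span_singleton]
    exact phi_eq_zero_iff (mem_nonZeroDivisors_of_ne_zero ht0) hsec f
  let g := (Ideal.quotientEquivAlgOfEq k hker.symm).trans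
    (Ideal.quotientKerAlgEquivOfSurjective (f := π) (phi_surjective hsec))
  have hg : ∀ f, g (Ideal.Quotient.mk _ f) = π f := fun f => rfl
  have hae : ∀ f, π f = Ideal.Quotient.mk _ (Polynomial.aeval t f) := fun f =>
    DFunLike.congr_fun (Polynomial.algHom_ext (g := (Ideal.Quotient.mkₐ k _).comp (Polynomial.aeval t))
      (by rw [AlgHom.comp_apply, aeval_X]; exact phi_X _)) f
  refine ⟨g.symm.toAlgHom.comp (Ideal.Quotient.mkₐ k _), fun a f h => ?_, ?_⟩
  · rw [← Ideal.Quotient.eq]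
    have h2 : Ideal.Quotient.mk (Ideal.span {t ^ m}) a = g (Ideal.Quotient.mk _ f) :=
      (g.symm_apply_eq).1 h
    rw [← hae, ← hg, h2]
  · refine g.symm_apply_eq.2 ?_
    rw [hg, hae, aeval_X]
    rfl

/-- The square-zero extensions of a rigid special fibre of a weakly smooth family split. -/
theorem exists_retraction_of_rigid_of_weak {t : A} (ht : (Ideal.span {t}).IsMaximal) (ht0 : t ≠ 0)
    (hτ : algebraMap A B t ∈ nonZeroDivisors B) [Subsingleton (CotT.T1 (CotT.canon k B0) B0)]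
    (e : (B ⧸ Ideal.span {algebraMap A B t}) ≃ₐ[k] B0) {N : ℕ} (hw : Weak A B (t ^ N))
    {E0 : Type u} [CommRing E0] [Algebra k E0] (π0 : E0 →ₐ[k] B0) (hπ0 : Function.Surjective π0)
    (hquot : ∀ x y, π0 x = 0 → π0 y = 0 → x * y = 0) :
    ∃ g : E0 →ₐ[k] E0, (∀ x, π0 (g x) = π0 x) ∧ ∀ x, π0 x = 0 → g x = 0 := by
  obtain ⟨α, hα, hαt⟩ := exists_coord (k := k) ht ht0 (Nat.le_add_left 1 N)
  obtain ⟨σ, hσ⟩ := exists_isSec (algebraMap A B t) e hτ N
  let J : Ideal E0[X] := Ideal.span {(X : E0[X]) ^ (N + 1)}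
  have hle : Ideal.span {(X : k[X]) ^ (N + 1)} ≤ Ideal.comap (Polynomial.mapRingHom (algebraMap k E0)) J := by
    rw [Ideal.span_le, Set.singleton_subset_iff, SetLike.mem_coe, Ideal.mem_comap]
    simp only [coe_mapRingHom, Polynomial.map_pow, Polynomial.map_X]
    exact Ideal.mem_span_singleton_self _
  letI algA : Algebra A (E0[X] ⧸ J) :=
    ((Ideal.quotientMap J (Polynomial.mapRingHom (algebraMap k E0)) hle).comp α.toRingHom).toAlgebra
  have halg : ∀ a f, α a = Ideal.Quotient.mk _ f →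
      algebraMap A (E0[X] ⧸ J) a = Ideal.Quotient.mk J (f.map (algebraMap k E0)) := fun a f h => by
    change Ideal.quotientMap J (Polynomial.mapRingHom (algebraMap k E0)) hle (α a) = _
    rw [h, Ideal.quotientMap_mk]
    rfl
  let ψ : E0[X] →ₐ[k] B ⧸ Ideal.span {algebraMap A B t ^ (N + 1)} := (phi σ).comp (Polynomial.mapAlgHom π0)
  have hψ : ∀ f, ψ f = phi σ (f.map π0.toRingHom) := fun f => rfl
  have hψk : ∀ f : k[X], ψ (f.map (algebraMap k E0)) =
      Ideal.Quotient.mk _ (algebraMap A B (Polynomial.aeval t f)) := fun f => by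
    have h1 : ψ (f.map (algebraMap k E0)) = Polynomial.aeval (ψ X) f := by
      rw [← Polynomial.aeval_X_left_eq_map]
      exact (Polynomial.aeval_algHom_apply ψ X f).symm
    rw [h1, hψ, Polynomial.map_X, phi_X]
    exact (Polynomial.aeval_algHom_apply ((Ideal.Quotient.mkₐ k _).comp
      (IsScalarTower.toAlgHom k A B)) t f)
  let p : (E0[X] ⧸ J) →ₐ[A] B ⧸ Ideal.span {algebraMap A B t ^ (N + 1)} :=
    { Ideal.Quotient.lift J ψ.toRingHom (fun x hx => by
        obtain ⟨g, rfl⟩ := Ideal.mem_span_singleton.1 hx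
        change ψ _ = 0
        rw [hψ, Polynomial.map_mul, Polynomial.map_pow, Polynomial.map_X]
        exact (phi_eq_zero_iff hτ hσ _).2 (dvd_mul_right _ _)) with
      commutes' := fun a => by
        obtain ⟨f, hf⟩ := Ideal.Quotient.mk_surjective (α a)
        rw [halg a f hf.symm]
        change ψ _ = _
        rw [hψk]
        obtain ⟨c, hc⟩ := Ideal.mem_span_singleton.1 (hα a f hf.symm)
        change _ = Ideal.Quotient.mk _ (algebraMap A B a)
        rw [Ideal.Quotient.eq, ← map_sub, hc, map_mul, map_pow]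
        exact Ideal.mul_mem_right _ _ (Ideal.mem_span_singleton_self _) }
  have hp : Function.Surjective p := fun x => by
    obtain ⟨f, rfl⟩ := phi_surjective hσ x
    obtain ⟨g, rfl⟩ := Polynomial.map_surjective π0.toRingHom hπ0 f
    exact ⟨Ideal.Quotient.mk J g, hψ g⟩
  have hpker : ∀ f : E0[X], p (Ideal.Quotient.mk J f) = 0 ↔ ∀ i < N + 1, π0 (f.coeff i) = 0 := fun f => by
    change ψ f = 0 ↔ _
    rw [hψ, phi_eq_zero_iff hτ hσ, Polynomial.X_pow_dvd_iff]
    exact forall₂_congr fun i _ => by rw [Polynomial.coeff_map]; rfl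
  have hsq : ∀ x y, p x = 0 → p y = 0 → x * y = 0 := fun x y hx hy => by
    obtain ⟨f, rfl⟩ := Ideal.Quotient.mk_surjective x
    obtain ⟨g, rfl⟩ := Ideal.Quotient.mk_surjective y
    rw [← map_mul, Ideal.Quotient.eq_zero_iff_mem, Ideal.mem_span_singleton, Polynomial.X_pow_dvd_iff]
    intro d hd
    rw [Polynomial.coeff_mul]
    refine Finset.sum_eq_zero fun ⟨i, j⟩ hij => ?_
    have hij' : i + j = d := Finset.HasAntidiagonal.mem_antidiagonal.1 hij
    exact hquot _ _ ((hpker f).1 hx i (by omega)) ((hpker g).1 hy j (by omega))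
  have ht' : algebraMap A (E0[X] ⧸ J) t = Ideal.Quotient.mk J X := by
    rw [halg t X hαt, Polynomial.map_X]
  obtain ⟨D, hD0, hD⟩ := hw.exists_derivation (IsScalarTower.toAlgHom A B _ : B →ₐ[A] B ⧸ _)
    Ideal.Quotient.mk_surjective (t ^ (N + 1)) (by
      intro x hx
      rw [map_pow]
      exact Ideal.Quotient.eq_zero_iff_mem.1 hx)
    (E0[X] ⧸ J) (by rw [map_pow, ht', ← map_pow, Ideal.Quotient.eq_zero_iff_mem]; exact Ideal.mem_span_singleton_self _)
    p hp hsq
  choose rep hrep using fun x : E0[X] ⧸ J => Ideal.Quotient.mk_surjective x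
  let cN : (E0[X] ⧸ J) → E0 := fun x => (rep x).coeff N
  have hcN : ∀ f, cN (Ideal.Quotient.mk J f) = f.coeff N := fun f => by
    obtain ⟨g, hg⟩ := Ideal.mem_span_singleton.1 (Ideal.Quotient.eq.1 (hrep (Ideal.Quotient.mk J f)))
    rw [← sub_eq_zero, ← Polynomial.coeff_sub, hg, Polynomial.coeff_X_pow_mul']
    simp
  have hcNadd : ∀ x y, cN (x + y) = cN x + cN y := fun x y => by
    obtain ⟨f, rfl⟩ := Ideal.Quotient.mk_surjective x
    obtain ⟨g, rfl⟩ := Ideal.Quotient.mk_surjective y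
    rw [← map_add, hcN, hcN, hcN, Polynomial.coeff_add]
  have hcNmul : ∀ c y, cN (Ideal.Quotient.mk J (C c) * y) = c * cN y := fun c y => by
    obtain ⟨f, rfl⟩ := Ideal.Quotient.mk_surjective y
    rw [← map_mul, hcN, hcN, Polynomial.coeff_C_mul]
  let d : E0 → E0 := fun e0 => cN (D (Ideal.Quotient.mk J (C e0)))
  have hdadd : ∀ x y, d (x + y) = d x + d y := fun x y => by
    simp only [d]
    rw [map_add, map_add, map_add, hcNadd]
  have hdmul : ∀ x y, d (x * y) = x * d y + y * d x := fun x y => by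
    simp only [d]
    rw [map_mul, map_mul, Derivation.leibniz, smul_eq_mul, smul_eq_mul, hcNadd, hcNmul, hcNmul]
  have hdk : ∀ c : k, d (algebraMap k E0 c) = 0 := fun c => by
    simp only [d]
    have h1 := halg (algebraMap k A c) (C c) ((α.commutes c).trans rfl)
    rw [Polynomial.map_C] at h1
    rw [← h1, Derivation.map_algebraMap, ← map_zero (Ideal.Quotient.mk J), hcN, Polynomial.coeff_zero]
  have hdJ : ∀ x, π0 (d x) = 0 := fun x => by
    obtain ⟨f, hf⟩ := Ideal.Quotient.mk_surjective (D (Ideal.Quotient.mk J (C x)))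
    simp only [d]
    rw [← hf, hcN]
    exact (hpker f).1 (by rw [hf]; exact hD0 _) N N.lt_succ_self
  have hdid : ∀ x, π0 x = 0 → d x = x := fun x hx => by
    have h0 : p (Ideal.Quotient.mk J (C x)) = 0 := (hpker _).2 fun i _ => by
      rw [Polynomial.coeff_C]; split_ifs
      · exact hx
      · exact map_zero π0
    simp only [d]
    rw [hD _ h0, Algebra.smul_def, map_pow, ht', ← map_pow, ← map_mul, hcN, Polynomial.coeff_X_pow_mul']
    simp
  have hd1 : d 1 = 0 := (congrArg d (map_one (algebraMap k E0))).symm.trans (hdk 1)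
  have hd0 : d 0 = 0 := (congrArg d (map_zero (algebraMap k E0))).symm.trans (hdk 0)
  let g1 : E0 →ₐ[k] E0 :=
    { toFun := fun x => x - d x
      map_one' := by rw [hd1, sub_zero]
      map_zero' := by rw [hd0, sub_zero]
      map_add' := fun x y => by rw [hdadd]; ring
      map_mul' := fun x y => by
        rw [hdmul]
        linear_combination -(hquot _ _ (hdJ x) (hdJ y))
      commutes' := fun c => by rw [hdk, sub_zero] }
  exact ⟨g1, fun x => show π0 (x - d x) = π0 x by rw [map_sub, hdJ, sub_zero],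
    fun x hx => show x - d x = 0 by rw [hdid x hx, sub_self]⟩

/-- If a rigid algebra is the special fibre of a flat family over a curve which is weakly smooth by a power of
the parameter, then it is formally smooth. -/
theorem formallySmooth_of_rigid_of_weak {t : A} (ht : (Ideal.span {t}).IsMaximal) (ht0 : t ≠ 0)
    (hτ : algebraMap A B t ∈ nonZeroDivisors B) [Subsingleton (CotT.T1 (CotT.canon k B0) B0)]
    (e : (B ⧸ Ideal.span {algebraMap A B t}) ≃ₐ[k] B0) {N : ℕ} (hw : Weak A B (t ^ N)) :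
    Algebra.FormallySmooth k B0 := by
  obtain ⟨n, q0, hq0⟩ := Algebra.FiniteType.iff_quotient_mvPolynomial''.1 (inferInstance : Algebra.FiniteType k B0)
  have hπ0 : Function.Surjective q0.kerSquareLift := fun b => by
    obtain ⟨r, rfl⟩ := hq0 b; exact ⟨Ideal.Quotient.mk _ r, rfl⟩
  obtain ⟨g, hg1, hg2⟩ := exists_retraction_of_rigid_of_weak (E0 := MvPolynomial (Fin n) k ⧸ RingHom.ker q0.toRingHom ^ 2)
    ht ht0 hτ e hw q0.kerSquareLift hπ0 (quot_sq_mul q0)
  refine Algebra.FormallySmooth.of_split q0 (AlgHom.liftOfSurjective _ hπ0 g hg2) (AlgHom.ext fun b => ?_)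
  obtain ⟨x, rfl⟩ := hπ0 b
  rw [AlgHom.comp_apply, AlgHom.liftOfSurjective_apply]
  exact hg1 x

end CotTLib
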