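import Groth.Agent.CotTLib.Tower
import Groth.Agent.CohenLib.RegularField
import Groth.Agent.CommAlgDim.Regular

/-!
# `T¹` and formal smoothness; `T²` of smooth algebras over regular rings vanishes
-/

set_option autoImplicit false
set_option maxHeartbeats 800000

universe u v w t m

open TensorProduct CotT

noncomputable section

namespace CotTLib

section Descent

variable {R : Type u} [CommRing R] {n : ℕ} (f : Fin n → R)

lemma exists_den_finsupp {S : Type v} [CommRing S] [Algebra R S] (M : Submonoid R) [IsLocalization M S]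
    (g : Fin n →₀ S) : ∃ t ∈ M, ∃ g0 : Fin n →₀ R,
      Finsupp.mapRange (algebraMap R S) (map_zero _) g0 = algebraMap R S t • g := by
  classical
  obtain ⟨t, ht⟩ := IsLocalization.exist_integer_multiples M Finset.univ (fun i => g i)
  choose g0 hg0 using fun i => ht i (Finset.mem_univ i)
  refine ⟨t, t.2, Finsupp.equivFunOnFinite.symm g0, Finsupp.ext fun i => ?_⟩
  rw [Finsupp.mapRange_apply, Finsupp.smul_apply, Finsupp.equivFunOnFinite_symm_apply_apply, hg0,
    Algebra.smul_def, smul_eq_mul]

lemma mapRange_linearCombination {S : Type v} [CommRing S] (φ : R →+* S) (g : Fin n →₀ R) :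
    Finsupp.linearCombination S (fun i => φ (f i)) (Finsupp.mapRange φ (map_zero _) g) =
      φ (Finsupp.linearCombination R f g) := by
  induction g using Finsupp.induction_linear with
  | zero => simp
  | add a b ha hb => rw [Finsupp.mapRange_add (map_add _), map_add, map_add, map_add, ha, hb]
  | single i r => simp

lemma mapRange_smul' {S : Type v} [CommRing S] (φ : R →+* S) (r : R) (g : Fin n →₀ R) :
    Finsupp.mapRange φ (map_zero _) (r • g) = φ r • Finsupp.mapRange φ (map_zero _) g := by
  ext i; simp

/-- Trivial relations over a localization come from trivial relations. -/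
lemma triv_descend {S : Type v} [CommRing S] [Algebra R S] (M : Submonoid R) [IsLocalization M S]
    {y : Fin n →₀ S} (hy : y ∈ triv (fun i => algebraMap R S (f i)) n) :
    ∃ t ∈ M, ∃ y0 ∈ triv f n, Finsupp.mapRange (algebraMap R S) (map_zero _) y0 = algebraMap R S t • y := by
  induction hy using Submodule.span_induction with
  | mem y hy =>
    obtain ⟨g, -, h, -, rfl⟩ := hy
    obtain ⟨s, hs, g0, hg0⟩ := exists_den_finsupp M g
    obtain ⟨s', hs', h0, hh0⟩ := exists_den_finsupp M h
    refine ⟨s * s', mul_mem hs hs', _, Submodule.subset_span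
      ⟨g0, by rw [supp_top]; trivial, h0, by rw [supp_top]; trivial, rfl⟩, ?_⟩
    rw [Finsupp.mapRange_sub (map_sub _), mapRange_smul', mapRange_smul', ← mapRange_linearCombination,
      ← mapRange_linearCombination, hg0, hh0, map_smul, map_smul, map_mul, smul_eq_mul, smul_eq_mul]
    module
  | zero => exact ⟨1, one_mem _, 0, zero_mem _, by simp⟩
  | add a b _ _ ha hb =>
    obtain ⟨s, hs, a0, ha0, ea⟩ := ha
    obtain ⟨s', hs', b0, hb0, eb⟩ := hb
    refine ⟨s * s', mul_mem hs hs', s' • a0 + s • b0,
      add_mem (Submodule.smul_mem _ _ ha0) (Submodule.smul_mem _ _ hb0), ?_⟩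
    rw [Finsupp.mapRange_add (map_add _), mapRange_smul', mapRange_smul', ea, eb, map_mul]
    module
  | smul c a _ ha =>
    obtain ⟨s, hs, a0, ha0, ea⟩ := ha
    obtain ⟨⟨c0, s'⟩, hc⟩ := IsLocalization.surj M c
    refine ⟨s * s', mul_mem hs s'.2, c0 • a0, Submodule.smul_mem _ _ ha0, ?_⟩
    rw [mapRange_smul', ea, map_mul, ← hc]
    module

/-- If the ideal of `f` is locally generated by regular sequences, a relation with coefficients in the
ideal is trivial. -/
theorem mem_triv_of_locally
    (H : ∀ (P : Ideal R) [P.IsPrime], Ideal.span (Set.range f) ≤ P →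
      ∃ gs : List (Localization.AtPrime P), RingTheory.Sequence.IsWeaklyRegular (Localization.AtPrime P) gs ∧
        Ideal.ofList gs = (Ideal.span (Set.range f)).map (algebraMap R (Localization.AtPrime P)))
    (q : Fin n →₀ R) (hq : Finsupp.linearCombination R f q = 0)
    (hqI : ∀ i, q i ∈ Ideal.span (Set.range f)) : q ∈ triv f n := by
  classical
  set I := Ideal.span (Set.range f) with hIdef
  have hmemtop : ∀ {R' : Type u} [CommRing R'] (g : Fin n →₀ R'), g ∈ supp (R := R') n := fun g => by
    rw [supp_top]; trivial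
  have hIJ : I ≤ (triv f n).colon {q} := fun t ht => by
    obtain ⟨c, rfl⟩ := (Finsupp.mem_span_range_iff_exists_finsupp).1 ht
    rw [Submodule.mem_colon_singleton]
    refine Submodule.subset_span ⟨c, hmemtop c, q, hmemtop q, ?_⟩
    rw [hq, zero_smul, sub_zero, Finsupp.linearCombination_apply]
  suffices (triv f n).colon {q} = ⊤ by
    have h1 : (1 : R) ∈ (triv f n).colon {q} := this ▸ Submodule.mem_top
    rwa [Submodule.mem_colon_singleton, one_smul] at h1
  by_contra hne
  obtain ⟨P, hP, hPle⟩ := Ideal.exists_le_maximal _ hne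
  haveI := hP.isPrime
  obtain ⟨gs, hreg, hgs⟩ := H P (hIJ.trans hPle)
  let S := Localization.AtPrime P
  let φ := algebraMap R S
  let a : Fin n → S := fun i => φ (f i)
  let g : Fin gs.length → S := fun i => gs[i]
  have hga : Ideal.span (Set.range g) = Ideal.span (Set.range a) := by
    rw [show Ideal.span (Set.range g) = Ideal.ofList gs from ?_, hgs, hIdef, Ideal.map_span, ← Set.range_comp]
    · rfl
    · rw [Ideal.ofList]
      congr 1
      ext x
      exact ⟨fun ⟨i, hi⟩ => hi ▸ List.getElem_mem i.2,
        fun hx => (List.mem_iff_getElem.1 hx).elim fun j ⟨hj, hx⟩ => ⟨⟨j, hj⟩, hx⟩⟩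
  choose α hα using fun i => (Finsupp.mem_span_range_iff_exists_finsupp).1
    (hga.ge (Ideal.subset_span ⟨i, rfl⟩) : a i ∈ Ideal.span (Set.range g))
  choose β hβ using fun i => (Finsupp.mem_span_range_iff_exists_finsupp).1
    (hga.le (Ideal.subset_span ⟨i, rfl⟩) : g i ∈ Ideal.span (Set.range a))
  let A' : (Fin n →₀ S) →ₗ[S] (Fin gs.length →₀ S) := Finsupp.linearCombination S α
  let B' : (Fin gs.length →₀ S) →ₗ[S] (Fin n →₀ S) := Finsupp.linearCombination S β
  have hA : ∀ x, Finsupp.linearCombination S g (A' x) = Finsupp.linearCombination S a x := fun x => by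
    rw [← LinearMap.comp_apply]
    refine LinearMap.congr_fun (Finsupp.lhom_ext fun i r => ?_) x
    rw [LinearMap.comp_apply]
    simp only [A', Finsupp.linearCombination_single, map_smul]
    rw [Finsupp.linearCombination_apply, hα i]
  have hB : ∀ x, Finsupp.linearCombination S a (B' x) = Finsupp.linearCombination S g x := fun x => by
    rw [← LinearMap.comp_apply]
    refine LinearMap.congr_fun (Finsupp.lhom_ext fun i r => ?_) x
    rw [LinearMap.comp_apply]
    simp only [B', Finsupp.linearCombination_single, map_smul]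
    rw [Finsupp.linearCombination_apply, hβ i]
  set y := Finsupp.mapRange φ (map_zero _) q with hy
  have hy0 : Finsupp.linearCombination S a y = 0 := by
    rw [hy, mapRange_linearCombination, hq, map_zero]
  have hAy : A' y ∈ triv g gs.length :=
    mem_triv_top_of_reg g ((isWeaklyRegular_iff_isRegElem gs).1 hreg) (by rw [hA, hy0])
  have hBA : B' (A' y) ∈ triv a n := by
    suffices triv g gs.length ≤ (triv a n).comap B' from this hAy
    refine Submodule.span_le.2 ?_
    rintro _ ⟨u, -, u', -, rfl⟩
    rw [SetLike.mem_coe, Submodule.mem_comap, map_sub, map_smul, map_smul, ← hB, ← hB u']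
    exact Submodule.subset_span ⟨B' u, hmemtop _, B' u', hmemtop _, rfl⟩
  have hdiff : y - B' (A' y) ∈ triv a n := by
    rw [← y.sum_single, Finsupp.sum, map_sum, map_sum, ← Finset.sum_sub_distrib]
    refine sum_mem fun i _ => ?_
    set u : Fin n →₀ S := Finsupp.single i 1 - B' (A' (Finsupp.single i 1)) with hu
    have he : Finsupp.single i (y i) - B' (A' (Finsupp.single i (y i))) = y i • u := by
      rw [hu, smul_sub, ← map_smul, ← map_smul, Finsupp.smul_single, smul_eq_mul, mul_one]
    rw [he]
    have hu0 : Finsupp.linearCombination S a u = 0 := by rw [hu, map_sub, hB, hA, sub_self]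
    have hyi : y i ∈ Ideal.span (Set.range a) := by
      rw [hy, Finsupp.mapRange_apply]
      have := Ideal.mem_map_of_mem φ (hqI i)
      rwa [hIdef, Ideal.map_span, ← Set.range_comp] at this
    obtain ⟨c, hc⟩ := (Finsupp.mem_span_range_iff_exists_finsupp).1 hyi
    rw [← hc]
    refine Submodule.subset_span ⟨c, hmemtop _, u, hmemtop _, ?_⟩
    rw [hu0, zero_smul, sub_zero, Finsupp.linearCombination_apply]
  have hyt : y ∈ triv a n := by simpa using add_mem hdiff hBA
  obtain ⟨t, ht, y0, hy0', e⟩ := triv_descend f P.primeCompl (S := S) hyt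
  have hz : ∀ i, ∃ s : P.primeCompl, (s : R) * y0 i = s * (t * q i) := fun i => by
    apply IsLocalization.exists_of_eq (S := S)
    have := DFunLike.congr_fun e i
    rw [hy, Finsupp.mapRange_apply, Finsupp.smul_apply, Finsupp.mapRange_apply] at this
    rw [map_mul]; exact this
  choose s hs using hz
  have hkey : ((∏ i, (s i : R)) * t) • q = (∏ i, (s i : R)) • y0 := by
    ext i
    obtain ⟨d, hd⟩ := Finset.dvd_prod_of_mem (fun i => (s i : R)) (Finset.mem_univ i)
    rw [Finsupp.smul_apply, Finsupp.smul_apply, smul_eq_mul, smul_eq_mul, hd,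
      mul_comm (s i : R) d, mul_assoc d (s i : R) t, mul_assoc, mul_assoc, mul_assoc, ← hs i]
  have hnot : (∏ i, (s i : R)) * t ∈ P.primeCompl :=
    mul_mem (prod_mem fun i _ => (s i).2) ht
  exact hnot (hPle ((Submodule.mem_colon_singleton).2 (hkey ▸ Submodule.smul_mem _ _ hy0')))

end Descent

variable {A : Type u} {B : Type v} {ι : Type w} {σ : Type t}
variable [CommRing A] [CommRing B] [Algebra A B] (P : Algebra.Presentation A B ι σ)

theorem toCot_surjective : Function.Surjective (toCot P) := fun z => by
  obtain ⟨b, rfl⟩ := Algebra.Extension.Cotangent.mk_surjective z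
  obtain ⟨f, hf⟩ := (range_jmap P).ge b.2
  refine ⟨(1 : B) ⊗ₜ f, ?_⟩
  rw [toCot_tmul, one_smul]
  exact congrArg Algebra.Extension.Cotangent.mk (Subtype.ext hf)

theorem toCot_exact : Function.Exact (d2 P) (toCot P) := by
  intro z
  refine ⟨fun hz => ?_, fun ⟨w, hw⟩ => hw ▸ LinearMap.congr_fun (toCot_comp_d2 P) w⟩
  obtain ⟨f, rfl⟩ := one_tmul_surjective P z
  rw [toCot_tmul, one_smul, Algebra.Extension.Cotangent.mk_eq_zero_iff, pow_two] at hz
  have key : ∀ r ∈ P.toExtension.ker * P.toExtension.ker, ∃ g : relMod P,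
      jmap P g = r ∧ (1 : B) ⊗ₜ[P.toExtension.Ring] g = (0 : L1 P) := by
    intro r hr
    refine Submodule.mul_induction_on hr (fun a ha b hb => ?_) ?_
    · obtain ⟨g, hg⟩ := (range_jmap P).ge hb
      refine ⟨a • g, by rw [map_smul, hg]; rfl, ?_⟩
      rw [← TensorProduct.smul_tmul, Algebra.smul_def, show algebraMap P.toExtension.Ring B a = 0 from ha,
        zero_mul, TensorProduct.zero_tmul]
    · rintro x y ⟨g, hg, hg'⟩ ⟨g', h1, h2⟩
      exact ⟨g + g', by rw [map_add, hg, h1], by rw [TensorProduct.tmul_add, hg', h2, add_zero]⟩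
  obtain ⟨g, hg, hg0⟩ := key _ hz
  refine ⟨Submodule.Quotient.mk ((1 : B) ⊗ₜ ⟨f - g, ?_⟩), ?_⟩
  · change jmap P (f - g) = 0
    rw [map_sub, hg]; exact sub_eq_zero.2 rfl
  · rw [d2_mk_tmul, TensorProduct.tmul_sub, hg0, sub_zero]

/-- `T¹ = 0` for all modules iff the conormal map is split injective. -/
theorem forall_subsingleton_T1_iff :
    (∀ (M : Type (max u v w t)) [AddCommGroup M] [Module B M], Subsingleton (T1 P M)) ↔
      ∃ l, l ∘ₗ P.toExtension.cotangentComplex = LinearMap.id := by
  constructor
  · intro h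
    let N := ULift.{max v t} P.toExtension.Cotangent
    let φ : P.toExtension.Cotangent →ₗ[B] N := ULift.moduleEquiv.symm.toLinearMap
    haveI := h N
    have h0 : homToT1 P N φ = 0 := Subsingleton.elim _ _
    obtain ⟨ψ, hψ⟩ := (Submodule.Quotient.mk_eq_zero _).1 h0
    refine ⟨ULift.moduleEquiv.toLinearMap ∘ₗ ψ, LinearMap.ext fun z => ?_⟩
    obtain ⟨y, rfl⟩ := toCot_surjective P z
    have hy := LinearMap.congr_fun hψ y
    change ψ (P.toExtension.cotangentComplex (toCot P y)) = φ (toCot P y) at hy
    change (ULift.moduleEquiv (R := B)) (ψ (P.toExtension.cotangentComplex (toCot P y))) = toCot P y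
    rw [hy]; rfl
  · rintro ⟨l, hl⟩ M _ _
    refine subsingleton_of_forall_eq 0 fun x => ?_
    obtain ⟨⟨φ, hφ⟩, rfl⟩ := Submodule.Quotient.mk_surjective _ x
    let χ : P.toExtension.Cotangent →ₗ[B] M :=
      (Submodule.liftQ _ φ (by rintro _ ⟨y, rfl⟩; exact LinearMap.congr_fun hφ y)) ∘ₗ
        ((toCot_exact P).linearEquivOfSurjective (toCot_surjective P)).symm.toLinearMap
    have hχ : ∀ y, χ (toCot P y) = φ y := fun y => by
      simp only [χ, LinearMap.comp_apply, LinearEquiv.coe_coe]
      rw [show ((toCot_exact P).linearEquivOfSurjective (toCot_surjective P)).symm (toCot P y) =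
        Submodule.Quotient.mk y from ((toCot_exact P).linearEquivOfSurjective _).symm_apply_eq.2 rfl]
      rfl
    refine (Submodule.Quotient.mk_eq_zero _).2 ⟨χ ∘ₗ l, LinearMap.ext fun y => ?_⟩
    change χ (l (P.toExtension.cotangentComplex (toCot P y))) = φ y
    rw [show l (P.toExtension.cotangentComplex (toCot P y)) = toCot P y from LinearMap.congr_fun hl _, hχ]

theorem subsingleton_T2_of_injective_of_projective (hinj : Function.Injective (d2 P))
    [Module.Projective B P.toExtension.Cotangent] (M : Type m) [AddCommGroup M] [Module B M] :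
    Subsingleton (T2 P M) := by
  obtain ⟨s, hs⟩ := Module.projective_lifting_property (toCot P) LinearMap.id (toCot_surjective P)
  obtain ⟨r, hr⟩ : ∃ r : L1 P →ₗ[B] L2 P, r ∘ₗ d2 P = LinearMap.id := by
    let e := LinearEquiv.ofInjective (d2 P) hinj
    let π : L1 P →ₗ[B] LinearMap.range (d2 P) :=
      (LinearMap.id - s ∘ₗ toCot P).codRestrict _ (fun x => (toCot_exact P _).1 (by
        rw [LinearMap.sub_apply, LinearMap.comp_apply, LinearMap.id_apply, map_sub,
          show toCot P (s (toCot P x)) = toCot P x from LinearMap.congr_fun hs _, sub_self]))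
    refine ⟨e.symm.toLinearMap ∘ₗ π, LinearMap.ext fun x => ?_⟩
    change e.symm (π (d2 P x)) = x
    rw [LinearEquiv.symm_apply_eq]
    refine Subtype.ext ?_
    change d2 P x - s (toCot P (d2 P x)) = d2 P x
    rw [show toCot P (d2 P x) = 0 from LinearMap.congr_fun (toCot_comp_d2 P) x, map_zero, sub_zero]
  refine subsingleton_of_forall_eq 0 fun x => ?_
  obtain ⟨φ, rfl⟩ := Submodule.Quotient.mk_surjective _ x
  refine (Submodule.Quotient.mk_eq_zero _).2 ⟨φ ∘ₗ r, ?_⟩
  rw [d2Star_apply, LinearMap.comp_assoc, hr, LinearMap.comp_id]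

theorem d2_injective_of_smooth {A : Type u} {B : Type u} [CommRing A] [IsRegularRing A] [CommRing B]
    [Algebra A B] [Algebra.Smooth A B] {n r : ℕ} (P : Algebra.Presentation A B (Fin n) (Fin r)) :
    Function.Injective (d2 P) := by
  haveI : IsRegularRing B := CohenLib.isRegularRing_of_smooth A B
  haveI : IsRegularRing P.toExtension.Ring := inferInstanceAs (IsRegularRing (MvPolynomial (Fin n) A))
  have hsurj := P.toExtension.algebraMap_surjective
  have hI : Ideal.span (Set.range (rel P)) = RingHom.ker (algebraMap P.toExtension.Ring B) :=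
    P.span_range_relation_eq_ker
  rw [injective_iff_map_eq_zero]
  intro z hz
  obtain ⟨q, rfl⟩ := mk_one_tmul_surjective P z
  rw [d2_mk_tmul] at hz
  rw [mk_one_tmul_eq_zero_iff]
  have hcoef : ∀ i, (q : relMod P) i ∈ Ideal.span (Set.range (rel P)) := fun i => by
    rw [hI, RingHom.mem_ker]
    have := congrArg (fun w => (L1basis P).repr w i) hz
    simp only [map_zero, Finsupp.coe_zero, Pi.zero_apply] at this
    rw [← this]
    simp [L1basis, Algebra.algebraMap_eq_smul_one]
  have hmem : (q : relMod P) ∈ triv (rel P) r := by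
    refine mem_triv_of_locally (rel P) (fun Q _ hQ => ?_) q q.2 hcoef
    set S := Localization.AtPrime Q
    set J := (Ideal.span (Set.range (rel P))).map (algebraMap P.toExtension.Ring S)
    have hQ' : RingHom.ker (algebraMap P.toExtension.Ring B) ≤ Q := hI ▸ hQ
    let p : Ideal B := Q.map (algebraMap P.toExtension.Ring B)
    haveI : p.IsPrime := Ideal.map_isPrime_of_surjective hsurj hQ'
    have hcomap : p.comap (algebraMap P.toExtension.Ring B) = Q := by
      rw [Ideal.comap_map_of_surjective _ hsurj, ← RingHom.ker_eq_comap_bot]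
      exact sup_eq_left.2 hQ'
    have hM : Q.primeCompl.map (algebraMap P.toExtension.Ring B) = p.primeCompl := by
      ext b
      constructor
      · rintro ⟨x, hx, rfl⟩ hb
        exact hx (hcomap ▸ hb)
      · intro hb
        obtain ⟨x, rfl⟩ := hsurj b
        exact ⟨x, fun hx => hb (Ideal.mem_map_of_mem _ hx), rfl⟩
    let g : B →+* S ⧸ J := (Ideal.Quotient.lift _ ((Ideal.Quotient.mk J).comp (algebraMap _ S))
      (fun x hx => Ideal.Quotient.eq_zero_iff_mem.2 (Ideal.mem_map_of_mem _ (hI ▸ hx)))).comp
      (RingHom.quotientKerEquivOfSurjective hsurj).symm.toRingHom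
    have hg : ∀ x, g (algebraMap P.toExtension.Ring B x) = Ideal.Quotient.mk J (algebraMap _ S x) := fun x => by
      simp only [g, RingHom.comp_apply, RingEquiv.toRingHom_eq_coe, RingHom.coe_coe]
      rw [RingHom.quotientKerEquivOfSurjective_symm_apply, Ideal.Quotient.lift_mk]
      rfl
    letI : Algebra B (S ⧸ J) := g.toAlgebra
    have hloc : IsLocalization p.primeCompl (S ⧸ J) := hM ▸
      IsLocalization.of_surjective Q.primeCompl S (algebraMap P.toExtension.Ring B) hsurj (Ideal.Quotient.mk J)
        Ideal.Quotient.mk_surjective (RingHom.ext fun x => (hg x).symm)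
        (by rw [Ideal.mk_ker, ← hI])
    haveI := hloc
    haveI : IsRegularLocalRing (S ⧸ J) :=
      IsRegularLocalRing.of_ringEquiv (IsLocalization.algEquiv p.primeCompl (Localization.AtPrime p) (S ⧸ J)).toRingEquiv
    obtain ⟨rs, hrs, hrsJ⟩ := CommAlgDim.exists_isRegular_of_regular_quotient (R := S) (J := J)
    exact ⟨rs, hrs.toIsWeaklyRegular, hrsJ⟩
  refine (Submodule.span_le.2 ?_ : triv (rel P) r ≤ trivRel P) hmem
  rintro _ ⟨g, -, h', -, rfl⟩
  exact Submodule.subset_span ⟨g, h', rfl⟩

theorem subsingleton_T2_of_smooth {A : Type u} {B : Type u} [CommRing A] [IsRegularRing A] [CommRing B]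
    [Algebra A B] [Algebra.Smooth A B] (M : Type m) [AddCommGroup M] [Module B M] :
    Subsingleton (T2 (canon A B) M) := by
  let P := Algebra.Presentation.ofFinitePresentation A B
  haveI : Algebra.FormallySmooth A P.toExtension.Ring :=
    inferInstanceAs (Algebra.FormallySmooth A (MvPolynomial (Fin _) A))
  refine (subsingleton_T2_iff (canon A B) P M).2 ?_
  obtain ⟨l, hl⟩ := P.toExtension.formallySmooth_iff_split_injection.1 inferInstance
  haveI : Module.Free B P.toExtension.CotangentSpace := Module.Free.of_basis P.cotangentSpaceBasis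
  haveI : Module.Projective B P.toExtension.Cotangent := Module.Projective.of_split _ l hl
  exact subsingleton_T2_of_injective_of_projective P (d2_injective_of_smooth P) M

theorem forall_subsingleton_T1_canon_iff (A B : Type u) [CommRing A] [CommRing B] [Algebra A B] :
    (∀ (M : Type u) [AddCommGroup M] [Module B M], Subsingleton (T1 (canon A B) M)) ↔
      Algebra.FormallySmooth A B := by
  haveI : Algebra.FormallySmooth A (canon A B).toExtension.Ring :=
    inferInstanceAs (Algebra.FormallySmooth A (MvPolynomial B A))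
  rw [(canon A B).toExtension.formallySmooth_iff_split_injection]
  exact forall_subsingleton_T1_iff (canon A B)

end CotTLib
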