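import Groth.Agent.CotTLib.Basic

/-!
# The composite presentation of a tower `R → S → T`: the three complexes form a sequence
which is split exact in degrees `0, 1` and right exact in degree `2`.
-/

set_option autoImplicit false
set_option backward.isDefEq.respectTransparency false
set_option maxHeartbeats 800000

universe u v w x y z s m

open TensorProduct CotT

noncomputable section

namespace CotTLib

section General

variable {A : Type u} {B : Type v} {ι : Type w} {σ : Type x}
variable [CommRing A] [CommRing B] [Algebra A B] (P : Algebra.Presentation A B ι σ)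

lemma ker_smul_mem_trivRel {a : P.toExtension.Ring} (ha : algebraMap P.toExtension.Ring B a = 0)
    (q : relKer P) : a • (q : relMod P) ∈ trivRel P := by
  have : a ∈ LinearMap.range (jmap P) := by rw [range_jmap]; exact ha
  obtain ⟨f, rfl⟩ := this
  refine Submodule.subset_span ⟨f, q, ?_⟩
  rw [show jmap P (q : relMod P) = 0 from q.2, zero_smul, sub_zero]

lemma one_tmul_surjective {N : Type s} [AddCommMonoid N] [Module P.toExtension.Ring N]
    (z : B ⊗[P.toExtension.Ring] N) : ∃ x : N, z = (1 : B) ⊗ₜ x := by
  obtain ⟨q, hq⟩ := TensorProduct.mk_surjective P.toExtension.Ring N B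
    P.toExtension.algebraMap_surjective z
  exact ⟨q, hq.symm⟩

lemma mk_one_tmul_surjective (z : L2 P) :
    ∃ q : relKer P, z = Submodule.Quotient.mk ((1 : B) ⊗ₜ q) := by
  obtain ⟨w, rfl⟩ := Submodule.Quotient.mk_surjective _ z
  obtain ⟨q, rfl⟩ := one_tmul_surjective P w
  exact ⟨q, rfl⟩

theorem mk_one_tmul_eq_zero_iff (q : relKer P) :
    (Submodule.Quotient.mk ((1 : B) ⊗ₜ q) : L2 P) = 0 ↔ (q : relMod P) ∈ trivRel P := by
  rw [Submodule.Quotient.mk_eq_zero]
  refine ⟨?_, fun h => ⟨(1 : B) ⊗ₜ ⟨q, h⟩, rfl⟩⟩
  rintro ⟨w, hw⟩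
  obtain ⟨t, rfl⟩ := one_tmul_surjective P w
  rw [LinearMap.baseChange_tmul] at hw
  set d : relKer P := (trivRelKer P).subtype t - q with hd
  have hd0 : (1 : B) ⊗ₜ[P.toExtension.Ring] d = 0 := by
    change TensorProduct.mk P.toExtension.Ring B (relKer P) 1 d = 0
    have h2 := (TensorProduct.mk P.toExtension.Ring B (relKer P) 1).map_add d q
    have hdq : d + q = (trivRelKer P).subtype t :=
      Subtype.ext (sub_add_cancel (((trivRelKer P).subtype t : relKer P) : relMod P) (q : relMod P))
    rw [hdq] at h2
    exact add_eq_right.1 (h2.symm.trans hw)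
  have hex : Function.Exact (LinearMap.ker (Algebra.linearMap P.toExtension.Ring B)).subtype
      (Algebra.linearMap P.toExtension.Ring B) := LinearMap.exact_subtype_ker_map _
  obtain ⟨w', hw'⟩ := (rTensor_exact (relKer P) hex P.toExtension.algebraMap_surjective
    ((1 : P.toExtension.Ring) ⊗ₜ d)).1 (by
      rw [LinearMap.rTensor_tmul, Algebra.linearMap_apply, map_one]; exact hd0)
  have key : ∀ e : LinearMap.ker (Algebra.linearMap P.toExtension.Ring B) ⊗[P.toExtension.Ring] relKer P,
      ((TensorProduct.lid _ _ ((LinearMap.ker (Algebra.linearMap P.toExtension.Ring B)).subtype.rTensor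
        (relKer P) e) : relKer P) : relMod P) ∈ trivRel P := by
    intro e
    induction e using TensorProduct.induction_on with
    | zero => simp
    | add a b ha hb => rw [map_add, map_add, Submodule.coe_add]; exact add_mem ha hb
    | tmul a b =>
      rw [LinearMap.rTensor_tmul, TensorProduct.lid_tmul, Submodule.coe_smul]
      exact ker_smul_mem_trivRel P (LinearMap.mem_ker.1 a.2) b
  have := key w'
  rw [hw', TensorProduct.lid_tmul, one_smul, hd, Submodule.coe_sub] at this
  have ht : (((trivRelKer P).subtype t : relKer P) : relMod P) ∈ trivRel P := t.2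
  simpa using sub_mem ht this

end General

variable {R : Type u} {S : Type v} {T : Type w}
variable [CommRing R] [CommRing S] [CommRing T] [Algebra R S] [Algebra S T] [Algebra R T]
variable [IsScalarTower R S T]
variable {ι : Type x} {σ : Type y} {ι' : Type z} {σ' : Type s}
variable (Q : Algebra.Presentation S T ι' σ') (P : Algebra.Presentation R S ι σ)

/-- `P → Q ∘ P`. -/
def inHom : PresHom P (Q.comp P) where
  hom := Q.toGenerators.toComp P.toGenerators
  relVal r := Finsupp.single (Sum.inr r) 1
  jmap_relVal r := by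
    rw [jmap_single, one_mul]
    exact (DFunLike.congr_fun (Algebra.Generators.toComp_toAlgHom Q.toGenerators P.toGenerators)
      (P.relation r)).symm

/-- `Q ∘ P → Q`. -/
def outHom : PresHom (Q.comp P) Q where
  hom := Q.toGenerators.ofComp P.toGenerators
  relVal := Sum.elim (fun r => Finsupp.single r 1) (fun _ => 0)
  jmap_relVal r := by
    rcases r with r | r
    · rw [Sum.elim_inl, jmap_single, one_mul]
      exact (Q.comp_aeval_relation_inl P r).symm
    · rw [Sum.elim_inr, map_zero]
      refine ((Algebra.Generators.toAlgHom_ofComp_rename Q.toGenerators P.toGenerators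
        (P.relation r)).trans ?_).symm
      have h0 : algebraMap P.toExtension.Ring S (rel P r) = 0 := algebraMap_rel P r
      exact (congrArg MvPolynomial.C h0).trans (map_zero _)

lemma outHom_ringHom_surjective : Function.Surjective (outHom Q P).ringHom :=
  Algebra.Generators.toAlgHom_ofComp_surjective Q.toGenerators P.toGenerators

lemma outHom_relModMap_surjective : Function.Surjective (outHom Q P).relModMap := by
  intro f
  induction f using Finsupp.induction_linear with
  | zero => exact ⟨0, map_zero _⟩
  | add a b ha hb =>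
    obtain ⟨a, rfl⟩ := ha; obtain ⟨b, rfl⟩ := hb
    exact ⟨a + b, map_add _ _ _⟩
  | single r c =>
    obtain ⟨c, rfl⟩ := outHom_ringHom_surjective Q P c
    refine ⟨Finsupp.single (Sum.inl r) c, ?_⟩
    rw [PresHom.relModMap_single]
    change _ • Finsupp.single r 1 = _
    rw [Finsupp.smul_single, smul_eq_mul, mul_one]

lemma outHom_relModMap_apply (f : relMod (Q.comp P)) (r : σ') :
    (outHom Q P).relModMap f r = (outHom Q P).ringHom (f (Sum.inl r)) := by
  induction f using Finsupp.induction_linear with
  | zero => simp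
  | add a b ha hb => rw [map_add, Finsupp.add_apply, ha, hb, Finsupp.add_apply, map_add]
  | single t c =>
    classical
    rw [PresHom.relModMap_single, Finsupp.smul_apply]
    rcases t with t | t
    · change _ • Finsupp.single t 1 r = _
      rw [Finsupp.single_apply, Finsupp.single_apply]
      by_cases h : t = r
      · subst h; simp
      · simp [h]
    · change _ • (0 : relMod Q) r = _
      simp

lemma exists_trivRel_lift {y : relMod Q} (hy : y ∈ trivRel Q) :
    ∃ y' ∈ trivRel (Q.comp P), (outHom Q P).relModMap y' = y := by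
  induction hy using Submodule.span_induction with
  | mem y hy =>
    obtain ⟨a, b, rfl⟩ := hy
    obtain ⟨a, rfl⟩ := outHom_relModMap_surjective Q P a
    obtain ⟨b, rfl⟩ := outHom_relModMap_surjective Q P b
    refine ⟨_, Submodule.subset_span ⟨a, b, rfl⟩, ?_⟩
    rw [map_sub, LinearMap.map_smulₛₗ, LinearMap.map_smulₛₗ, PresHom.jmap_relModMap,
      PresHom.jmap_relModMap]
  | zero => exact ⟨0, zero_mem _, map_zero _⟩
  | add a b _ _ ha hb =>
    obtain ⟨a, ha, rfl⟩ := ha; obtain ⟨b, hb, rfl⟩ := hb
    exact ⟨a + b, add_mem ha hb, map_add _ _ _⟩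
  | smul c a _ ha =>
    obtain ⟨a, ha, rfl⟩ := ha
    obtain ⟨c, rfl⟩ := outHom_ringHom_surjective Q P c
    exact ⟨c • a, Submodule.smul_mem _ _ ha, LinearMap.map_smulₛₗ _ _ _⟩

lemma ker_outHom_ringHom {c : (Q.comp P).toExtension.Ring} (hc : (outHom Q P).ringHom c = 0) :
    c ∈ Ideal.span (Set.range fun r : σ => rel (Q.comp P) (Sum.inr r)) := by
  have h := (Algebra.Generators.map_toComp_ker Q.toGenerators P.toGenerators).ge hc
  rw [← P.span_range_relation_eq_ker, Ideal.map_span, ← Set.range_comp] at h
  refine Ideal.span_mono ?_ h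
  rintro _ ⟨r, rfl⟩
  exact ⟨r, (DFunLike.congr_fun (Algebra.Generators.toComp_toAlgHom Q.toGenerators P.toGenerators)
      (P.relation r)).symm⟩

/-- The relations supported on those coming from `P`. -/
def inrSupp : Submodule (Q.comp P).toExtension.Ring (relMod (Q.comp P)) :=
  Finsupp.supported _ _ (Set.range (Sum.inr : σ → σ' ⊕ σ))

lemma single_inl_mem {c : (Q.comp P).toExtension.Ring} (hc : (outHom Q P).ringHom c = 0) (t : σ') :
    Finsupp.single (Sum.inl t) c ∈ trivRel (Q.comp P) ⊔ inrSupp Q P := by
  have hc' := ker_outHom_ringHom Q P hc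
  clear hc
  induction hc' using Submodule.span_induction with
  | mem c hc =>
    obtain ⟨r, rfl⟩ := hc
    have h1 : jmap (Q.comp P) (Finsupp.single (Sum.inr r) 1) • Finsupp.single (Sum.inl t) 1 -
        jmap (Q.comp P) (Finsupp.single (Sum.inl t) 1) • Finsupp.single (Sum.inr r) 1 ∈
          trivRel (Q.comp P) := Submodule.subset_span ⟨_, _, rfl⟩
    rw [jmap_single, jmap_single, one_mul, one_mul, Finsupp.smul_single, Finsupp.smul_single,
      smul_eq_mul, smul_eq_mul, mul_one, mul_one] at h1
    have h2 : Finsupp.single (Sum.inr r) (rel (Q.comp P) (Sum.inl t)) ∈ inrSupp Q P :=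
      Finsupp.single_mem_supported _ _ ⟨r, rfl⟩
    have := Submodule.add_mem_sup h1 h2
    rwa [sub_add_cancel] at this
  | zero => simp
  | add a b _ _ ha hb => rw [Finsupp.single_add]; exact add_mem ha hb
  | smul d a _ ha => rw [← Finsupp.smul_single]; exact Submodule.smul_mem _ _ ha

lemma inHom_relModMap (w : relMod P) :
    (inHom Q P).relModMap w =
      Finsupp.mapDomain Sum.inr (Finsupp.mapRange (inHom Q P).ringHom (map_zero _) w) := by
  induction w using Finsupp.induction_linear with
  | zero => simp
  | add a b ha hb => rw [map_add, ha, hb, Finsupp.mapRange_add (map_add _), Finsupp.mapDomain_add]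
  | single r c =>
    rw [PresHom.relModMap_single, Finsupp.mapRange_single, Finsupp.mapDomain_single]
    change _ • Finsupp.single (Sum.inr r) 1 = _
    rw [Finsupp.smul_single, smul_eq_mul, mul_one]

/-- The span of the images of the relations of `P`. -/
def inImage : Submodule (Q.comp P).toExtension.Ring (relMod (Q.comp P)) :=
  Submodule.span _ ((inHom Q P).relModMap '' (relKer P : Set (relMod P)))

lemma inrSupp_inf_relKer_le : inrSupp Q P ⊓ relKer (Q.comp P) ≤ inImage Q P := by
  classical
  rintro z ⟨hz, hz0⟩
  let e : (Q.comp P).toExtension.Ring ≃+* MvPolynomial ι' P.toExtension.Ring :=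
    (MvPolynomial.sumAlgEquiv R ι' ι).toRingEquiv
  set z0 : σ →₀ (Q.comp P).toExtension.Ring := Finsupp.comapDomain Sum.inr z Sum.inr_injective.injOn with hz0def
  have hzz : z = Finsupp.mapDomain Sum.inr z0 :=
    (Finsupp.mapDomain_comapDomain _ Sum.inr_injective z ((Finsupp.mem_supported _ z).1 hz)).symm
  let π : (ι' →₀ ℕ) → (Q.comp P).toExtension.Ring → P.toExtension.Ring := fun v c =>
    MvPolynomial.coeff v (e c)
  have hπ0 : ∀ v, π v 0 = 0 := fun v => by
    change MvPolynomial.coeff v (e 0) = 0
    rw [map_zero, MvPolynomial.coeff_zero]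
  let w : (ι' →₀ ℕ) → relMod P := fun v => Finsupp.mapRange (π v) (hπ0 v) z0
  have hC : ∀ p : P.toExtension.Ring, e ((inHom Q P).ringHom p) = MvPolynomial.C p := fun p =>
    (congrArg (MvPolynomial.sumAlgEquiv R ι' ι)
      (DFunLike.congr_fun (Algebra.Generators.toComp_toAlgHom Q.toGenerators P.toGenerators) p)).trans
      (DFunLike.congr_fun (MvPolynomial.sumAlgEquiv_comp_rename_inr (R := R) (S₁ := ι') (S₂ := ι)) p)
  have hrel : ∀ r, rel (Q.comp P) (Sum.inr r) = (inHom Q P).ringHom (rel P r) := fun r => by
    have := (inHom Q P).jmap_relVal r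
    change jmap (Q.comp P) (Finsupp.single (Sum.inr r) 1) = _ at this
    rwa [jmap_single, one_mul] at this
  have hw : ∀ v, w v ∈ relKer P := by
    intro v
    have h1 : jmap (Q.comp P) z = 0 := hz0
    rw [hzz, jmap, Finsupp.linearCombination_mapDomain, Finsupp.linearCombination_apply] at h1
    have h2 := congrArg (fun c => MvPolynomial.coeff v (e c)) h1
    simp only [map_zero, MvPolynomial.coeff_zero, map_finsuppSum, Finsupp.sum, map_sum, MvPolynomial.coeff_sum] at h2
    rw [relKer, LinearMap.mem_ker, jmap, Finsupp.linearCombination_apply, Finsupp.sum_mapRange_index (by simp),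
      Finsupp.sum]
    refine Eq.trans (Finset.sum_congr rfl fun r _ => ?_) h2
    simp only [Function.comp_apply, smul_eq_mul, π]
    rw [hrel, map_mul, hC, mul_comm _ (MvPolynomial.C _), MvPolynomial.coeff_C_mul, mul_comm]
  let U : Finset (ι' →₀ ℕ) := z0.support.biUnion fun r => (e (z0 r)).support
  let mon : (ι' →₀ ℕ) → (Q.comp P).toExtension.Ring := fun v => e.symm (MvPolynomial.monomial v 1)
  have hdec : z = ∑ v ∈ U, mon v • (inHom Q P).relModMap (w v) := by
    have key : ∀ r, z0 r = ∑ v ∈ U, mon v * (inHom Q P).ringHom (π v (z0 r)) := by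
      intro r
      apply e.injective
      rw [map_sum]
      have hterm : ∀ v, e (mon v * (inHom Q P).ringHom (π v (z0 r))) = MvPolynomial.monomial v (π v (z0 r)) :=
        fun v => by
          rw [map_mul, hC, show e (mon v) = MvPolynomial.monomial v 1 from e.apply_symm_apply _,
            mul_comm, MvPolynomial.C_mul_monomial, mul_one]
      rw [Finset.sum_congr rfl fun v _ => hterm v]
      by_cases hr : r ∈ z0.support
      · conv_lhs => rw [MvPolynomial.as_sum (e (z0 r))]
        refine Finset.sum_subset (fun v hv => Finset.mem_biUnion.2 ⟨r, hr, hv⟩) fun v _ hv => ?_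
        rw [MvPolynomial.notMem_support_iff.1 hv, map_zero]
      · rw [Finsupp.notMem_support_iff.1 hr, map_zero]
        refine (Finset.sum_eq_zero fun v _ => ?_).symm
        rw [hπ0, map_zero]
    refine Finsupp.ext fun t => ?_
    rw [Finsupp.finsetSum_apply]
    rcases t with t | t
    · rw [hzz, Finsupp.mapDomain_of_notMem_range _ _ (by simp)]
      refine (Finset.sum_eq_zero fun v _ => ?_).symm
      rw [Finsupp.smul_apply, inHom_relModMap, Finsupp.mapDomain_of_notMem_range _ _ (by simp), smul_zero]
    · rw [hzz, Finsupp.mapDomain_apply Sum.inr_injective, key t]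
      refine Finset.sum_congr rfl fun v _ => ?_
      rw [Finsupp.smul_apply, inHom_relModMap, Finsupp.mapDomain_apply Sum.inr_injective,
        Finsupp.mapRange_apply, smul_eq_mul]
      rfl
  rw [hdec]
  exact sum_mem fun v _ => Submodule.smul_mem _ _ (Submodule.subset_span ⟨w v, hw v, rfl⟩)

lemma inImage_le_relKer : inImage Q P ≤ relKer (Q.comp P) := by
  refine Submodule.span_le.2 ?_
  rintro _ ⟨w, hw, rfl⟩
  change jmap _ _ = 0
  rw [PresHom.jmap_relModMap, show jmap P w = 0 from hw, map_zero]

theorem mem_triv_sup_inImage {q : relMod (Q.comp P)} (hq : q ∈ relKer (Q.comp P))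
    (h : (outHom Q P).relModMap q ∈ trivRel Q) : q ∈ trivRel (Q.comp P) ⊔ inImage Q P := by
  obtain ⟨y, hy, hy'⟩ := exists_trivRel_lift Q P h
  have h0 : (outHom Q P).relModMap (q - y) = 0 := by rw [map_sub, hy', sub_self]
  have hmem : q - y ∈ trivRel (Q.comp P) ⊔ inrSupp Q P := by
    rw [← (q - y).sum_single]
    refine Submodule.sum_mem _ fun t _ => ?_
    rcases t with t | t
    · refine single_inl_mem Q P ?_ t
      rw [← outHom_relModMap_apply, h0, Finsupp.zero_apply]
    · exact Submodule.mem_sup_right (Finsupp.single_mem_supported _ _ ⟨t, rfl⟩)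
  obtain ⟨a, ha, b, hb, hab⟩ := Submodule.mem_sup.1 hmem
  have hb' : b ∈ relKer (Q.comp P) := by
    have hb0 : b = q - (a + y) := by rw [← sub_sub, ← add_sub_cancel_left a b, hab]; abel
    rw [hb0]
    exact sub_mem hq (trivRel_le_relKer _ (add_mem ha hy))
  have he : q = (a + y) + b := by rw [add_right_comm, hab, sub_add_cancel]
  rw [he]
  exact Submodule.add_mem_sup (add_mem ha hy) (inrSupp_inf_relKer_le Q P ⟨hb, hb'⟩)

theorem outHom_L2map_surjective : Function.Surjective (outHom Q P).L2map := by
  intro z
  obtain ⟨q, rfl⟩ := mk_one_tmul_surjective Q z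
  obtain ⟨f, hf⟩ := outHom_relModMap_surjective Q P q
  have h0 : (outHom Q P).ringHom (jmap (Q.comp P) f) = 0 := by
    rw [← PresHom.jmap_relModMap, hf]; exact q.2
  obtain ⟨c, hc⟩ := (Finsupp.mem_span_range_iff_exists_finsupp).1 (ker_outHom_ringHom Q P h0)
  let g : relMod (Q.comp P) := Finsupp.mapDomain Sum.inr c
  have hg : jmap (Q.comp P) g = jmap (Q.comp P) f := by
    rw [← hc, jmap, Finsupp.linearCombination_mapDomain, Finsupp.linearCombination_apply]
    rfl
  have hg0 : (outHom Q P).relModMap g = 0 := by
    refine Finsupp.ext fun r => ?_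
    rw [outHom_relModMap_apply, Finsupp.mapDomain_of_notMem_range _ _ (by simp), map_zero, Finsupp.zero_apply]
  refine ⟨Submodule.Quotient.mk ((1 : T) ⊗ₜ ⟨f - g, ?_⟩), ?_⟩
  · rw [relKer, LinearMap.mem_ker, map_sub, hg, sub_self]
  · rw [PresHom.L2map_mk_tmul, map_one]
    congr 2
    refine Subtype.ext ?_
    rw [PresHom.relKerMap_coe, map_sub, hg0, sub_zero, hf]

lemma inHom_L0map (i : ι) :
    (inHom Q P).L0map (P.cotangentSpaceBasis i) = (Q.comp P).cotangentSpaceBasis (Sum.inr i) := by
  rw [L0map_basis, ringHom_X, Algebra.Generators.cotangentSpaceBasis_apply]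
  rfl

lemma outHom_L0map_inl (i : ι') :
    (outHom Q P).L0map ((Q.comp P).cotangentSpaceBasis (Sum.inl i)) = Q.cotangentSpaceBasis i := by
  rw [L0map_basis, ringHom_X, Algebra.Generators.cotangentSpaceBasis_apply]
  rfl

lemma outHom_L0map_inr (i : ι) :
    (outHom Q P).L0map ((Q.comp P).cotangentSpaceBasis (Sum.inr i)) = 0 := by
  rw [L0map_basis, ringHom_X]
  have : (outHom Q P).hom.val (Sum.inr i) = algebraMap S Q.toExtension.Ring (P.val i) := rfl
  rw [this, Derivation.map_algebraMap, TensorProduct.tmul_zero]

lemma inHom_L1map (r : σ) : (inHom Q P).L1map (L1basis P r) = L1basis (Q.comp P) (Sum.inr r) := by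
  rw [L1basis_apply, L1basis_apply, PresHom.L1map_tmul, map_one, PresHom.relModMap_single, map_one,
    one_smul]
  rfl

lemma outHom_L1map_inl (r : σ') : (outHom Q P).L1map (L1basis (Q.comp P) (Sum.inl r)) = L1basis Q r := by
  rw [L1basis_apply, L1basis_apply, PresHom.L1map_tmul, map_one, PresHom.relModMap_single, map_one,
    one_smul]
  rfl

lemma outHom_L1map_inr (r : σ) : (outHom Q P).L1map (L1basis (Q.comp P) (Sum.inr r)) = 0 := by
  rw [L1basis_apply, PresHom.L1map_tmul, PresHom.relModMap_single, map_one, map_one, one_smul]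
  exact TensorProduct.tmul_zero _ _

variable (M : Type m) [AddCommGroup M] [Module T M] [Module S M] [IsScalarTower S T M]

theorem pull0_injective : Function.Injective ((outHom Q P).pull0 M) := by
  intro φ φ' h
  refine Q.cotangentSpaceBasis.ext fun i => ?_
  have := LinearMap.congr_fun h ((Q.comp P).cotangentSpaceBasis (Sum.inl i))
  rwa [PresHom.pull0_apply, PresHom.pull0_apply, outHom_L0map_inl] at this

theorem pull1_injective : Function.Injective ((outHom Q P).pull1 M) := by
  intro φ φ' h
  refine (L1basis Q).ext fun i => ?_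
  have := LinearMap.congr_fun h (L1basis (Q.comp P) (Sum.inl i))
  rwa [PresHom.pull1_apply, PresHom.pull1_apply, outHom_L1map_inl] at this

theorem pull2_injective : Function.Injective ((outHom Q P).pull2 M) := by
  intro φ φ' h
  refine LinearMap.ext fun z => ?_
  obtain ⟨z, rfl⟩ := outHom_L2map_surjective Q P z
  exact LinearMap.congr_fun h z

theorem pull0_exact : Function.Exact ((outHom Q P).pull0 M) ((inHom Q P).pull0 M) := by
  intro ψ
  constructor
  · intro h
    refine ⟨Q.cotangentSpaceBasis.constr T fun i => ψ ((Q.comp P).cotangentSpaceBasis (Sum.inl i)),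
      (Q.comp P).cotangentSpaceBasis.ext fun t => ?_⟩
    rcases t with t | t
    · rw [PresHom.pull0_apply, outHom_L0map_inl, Module.Basis.constr_basis]
    · have := LinearMap.congr_fun h (P.cotangentSpaceBasis t)
      rw [PresHom.pull0_apply, inHom_L0map, LinearMap.zero_apply] at this
      rw [PresHom.pull0_apply, outHom_L0map_inr, map_zero, this]
  · rintro ⟨φ, rfl⟩
    refine P.cotangentSpaceBasis.ext fun i => ?_
    rw [PresHom.pull0_apply, inHom_L0map, PresHom.pull0_apply, outHom_L0map_inr, map_zero,
      LinearMap.zero_apply]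

theorem pull1_exact : Function.Exact ((outHom Q P).pull1 M) ((inHom Q P).pull1 M) := by
  intro ψ
  constructor
  · intro h
    refine ⟨(L1basis Q).constr T fun i => ψ (L1basis (Q.comp P) (Sum.inl i)),
      (L1basis (Q.comp P)).ext fun t => ?_⟩
    rcases t with t | t
    · rw [PresHom.pull1_apply, outHom_L1map_inl, Module.Basis.constr_basis]
    · have := LinearMap.congr_fun h (L1basis P t)
      rw [PresHom.pull1_apply, inHom_L1map, LinearMap.zero_apply] at this
      rw [PresHom.pull1_apply, outHom_L1map_inr, map_zero, this]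
  · rintro ⟨φ, rfl⟩
    refine (L1basis P).ext fun i => ?_
    rw [PresHom.pull1_apply, inHom_L1map, PresHom.pull1_apply, outHom_L1map_inr, map_zero,
      LinearMap.zero_apply]

theorem pull0_surjective : Function.Surjective ((inHom Q P).pull0 M) := fun φ =>
  ⟨(Q.comp P).cotangentSpaceBasis.constr T (Sum.elim (fun _ => 0) fun i => φ (P.cotangentSpaceBasis i)),
    P.cotangentSpaceBasis.ext fun i => by
      rw [PresHom.pull0_apply, inHom_L0map, Module.Basis.constr_basis, Sum.elim_inr]⟩

theorem pull1_surjective : Function.Surjective ((inHom Q P).pull1 M) := fun φ =>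
  ⟨(L1basis (Q.comp P)).constr T (Sum.elim (fun _ => 0) fun i => φ (L1basis P i)),
    (L1basis P).ext fun i => by
      rw [PresHom.pull1_apply, inHom_L1map, Module.Basis.constr_basis, Sum.elim_inr]⟩

theorem pull2_exact : Function.Exact ((outHom Q P).pull2 M) ((inHom Q P).pull2 M) := by
  intro ψ
  constructor
  · intro h
    let π : L2 (Q.comp P) →ₗ[T] L2 Q := PresHom.linOfSemilinear (L2 Q) (outHom Q P).L2map
    have hker : LinearMap.ker π ≤ LinearMap.ker ψ := by
      intro z hz
      obtain ⟨q, rfl⟩ := mk_one_tmul_surjective (Q.comp P) z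
      have hz' : (outHom Q P).relModMap (q : relMod (Q.comp P)) ∈ trivRel Q := by
        rw [← PresHom.relKerMap_coe, ← mk_one_tmul_eq_zero_iff Q]
        have hz1 : (outHom Q P).L2map (Submodule.Quotient.mk ((1 : T) ⊗ₜ q)) = 0 := hz
        rwa [PresHom.L2map_mk_tmul, map_one] at hz1
      let ev : relKer (Q.comp P) →+ M :=
        { toFun := fun x => ψ (Submodule.Quotient.mk ((1 : T) ⊗ₜ x))
          map_zero' := by simp
          map_add' := fun a b => by
            rw [TensorProduct.tmul_add, Submodule.Quotient.mk_add, map_add] }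
      have hev : ∀ (c : (Q.comp P).toExtension.Ring) (x : relKer (Q.comp P)),
          ev (c • x) = algebraMap (Q.comp P).toExtension.Ring T c • ev x := fun c x => by
        change ψ _ = _ • ψ _
        rw [← map_smul, ← Submodule.Quotient.mk_smul, algebraMap_smul, TensorProduct.tmul_smul]
      obtain ⟨a, ha, b, hb, hab⟩ := Submodule.mem_sup.1 (mem_triv_sup_inImage Q P q.2 hz')
      have hbz : ∀ (hb' : b ∈ relKer (Q.comp P)), ev ⟨b, hb'⟩ = 0 := by
        clear hab
        induction hb using Submodule.span_induction with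
        | mem x hx =>
          obtain ⟨w, hw, rfl⟩ := hx
          intro hb'
          have h2 := LinearMap.congr_fun h (Submodule.Quotient.mk ((1 : S) ⊗ₜ ⟨w, hw⟩))
          rw [PresHom.pull2_apply, PresHom.L2map_mk_tmul, map_one] at h2
          exact h2
        | zero => intro _; exact map_zero ev
        | add x y hx hy ihx ihy =>
          intro _
          have := map_add ev ⟨x, inImage_le_relKer Q P hx⟩ ⟨y, inImage_le_relKer Q P hy⟩
          rw [ihx, ihy, add_zero] at this
          exact this
        | smul c x hx ih =>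
          intro _
          have := hev c ⟨x, inImage_le_relKer Q P hx⟩
          rw [ih, smul_zero] at this
          exact this
      have haz : ev ⟨a, trivRel_le_relKer _ ha⟩ = 0 := by
        change ψ _ = 0
        rw [(mk_one_tmul_eq_zero_iff (Q.comp P) ⟨a, trivRel_le_relKer _ ha⟩).2 ha, map_zero]
      have hq : q = ⟨a, trivRel_le_relKer _ ha⟩ + ⟨b, inImage_le_relKer Q P hb⟩ := Subtype.ext hab.symm
      rw [LinearMap.mem_ker]
      change ev q = 0
      rw [hq, map_add, haz, hbz, add_zero]
    refine ⟨(Submodule.liftQ _ ψ hker) ∘ₗ (π.quotKerEquivOfSurjective (outHom_L2map_surjective Q P)).symm.toLinearMap,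
      LinearMap.ext fun z => ?_⟩
    change Submodule.liftQ _ ψ hker ((π.quotKerEquivOfSurjective _).symm (π z)) = ψ z
    rw [LinearMap.quotKerEquivOfSurjective_symm_apply, Submodule.liftQ_apply]
  · rintro ⟨φ, rfl⟩
    refine LinearMap.ext fun z => ?_
    obtain ⟨q, rfl⟩ := mk_one_tmul_surjective P z
    rw [PresHom.pull2_apply, PresHom.L2map_mk_tmul, map_one, PresHom.pull2_apply, PresHom.L2map_mk_tmul,
      LinearMap.zero_apply]
    convert map_zero φ
    rw [map_one, mk_one_tmul_eq_zero_iff]
    have : ((outHom Q P).relKerMap ((inHom Q P).relKerMap q) : relMod Q) = 0 := by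
      refine Finsupp.ext fun r => ?_
      rw [PresHom.relKerMap_coe, outHom_relModMap_apply, PresHom.relKerMap_coe, inHom_relModMap,
        Finsupp.mapDomain_of_notMem_range _ _ (by simp), map_zero, Finsupp.zero_apply]
    rw [this]; exact zero_mem _

end CotTLib
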