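import Groth.Agent.CotTLib.Exal
import Groth.Agent.CotTLib.Invariance
import Groth.Agent.CotTLib.Weak
import Mathlib.RingTheory.Extension.Presentation.Basic

/-!
# Weak smoothness and annihilators of `T¹`
-/

set_option autoImplicit false
set_option maxHeartbeats 1600000
set_option backward.isDefEq.respectTransparency false

universe u

open TensorProduct CotT

noncomputable section

namespace CotTLib

variable {A B : Type u} [CommRing A] [CommRing B] [Algebra A B] {ι σ : Type u}
variable (P : Algebra.Presentation A B ι σ)

theorem Weak.smul_T1_eq_zero {a : A} (hw : Weak A B a) {M : Type u} [AddCommGroup M] [Module B M]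
    (x : T1 P M) : algebraMap A B a • x = 0 := by
  obtain ⟨c, hc⟩ := (exalToT1_bijective (P := P) (M := M)).2 x
  obtain ⟨X, rfl⟩ := Quotient.exists_rep c
  have hl := someLift_spec (P := P) X
  set l := someLift P X
  have h0 : ∀ y z : X.E, X.proj y = 0 → X.proj z = 0 → y * z = 0 := fun y z hy hz => by
    obtain ⟨m, rfl⟩ := (X.isExtension.exact z).1 hz
    rw [X.isExtension.mul_incl, hy, zero_smul, map_zero]
  obtain ⟨D, hD0, hD⟩ := hw X.E X.proj X.isExtension.proj_surjective h0
  let χ : L0 P →ₗ[B] M := P.cotangentSpaceBasis.constr B fun i => X.kerLift (D (l i)) (hD0 _)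
  have key : ∀ r : P.toExtension.Ring,
      X.incl (χ ((1 : B) ⊗ₜ KaehlerDifferential.D A P.toExtension.Ring r)) = D (liftHom l r) := by
    intro r
    induction r using ring_induction (P := P) with
    | hC c => rw [AlgHom.commutes, Derivation.map_algebraMap, Derivation.map_algebraMap,
        TensorProduct.tmul_zero, map_zero, map_zero]
    | hadd p q hp hq => simp only [map_add, TensorProduct.tmul_add, hp, hq]
    | hmul p i hp =>
      have hX : liftHom (P := P) l (varX P i) = l i := MvPolynomial.aeval_X l i
      have hb : (1 : B) ⊗ₜ KaehlerDifferential.D A P.toExtension.Ring (varX P i) = P.cotangentSpaceBasis i :=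
        (Algebra.Generators.cotangentSpaceBasis_apply (P := P.toGenerators) i).symm
      have hi : X.incl (χ (P.cotangentSpaceBasis i)) = D (l i) := by
        simp only [χ, Module.Basis.constr_basis, Exal.Ext.incl_kerLift]
      rw [Derivation.leibniz, TensorProduct.tmul_add, TensorProduct.tmul_smul, TensorProduct.tmul_smul,
        ← algebraMap_smul B p, ← algebraMap_smul B (varX P i), hb, map_add, map_smul, map_smul, map_add,
        ← proj_liftHom hl, ← proj_liftHom hl (varX P i), ← X.isExtension.mul_incl, ← X.isExtension.mul_incl,
        hp, hi, map_mul, hX, Derivation.leibniz, smul_eq_mul, smul_eq_mul]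
  rw [← hc]
  change algebraMap A B a • classOf X = 0
  rw [classOf, ← Submodule.Quotient.mk_smul, Submodule.Quotient.mk_eq_zero]
  refine ⟨χ, ?_⟩
  change χ ∘ₗ d1 P = algebraMap A B a • cocFun l hl
  refine LinearMap.ext fun z => X.isExtension.incl_injective ?_
  obtain ⟨f, rfl⟩ := one_tmul_surjective P z
  rw [LinearMap.comp_apply, d1_tmul, one_smul, key, LinearMap.smul_apply, ← X.proj.commutes a,
    ← X.isExtension.mul_incl, incl_cocFun, ← Algebra.smul_def]
  exact hD _ (by rw [proj_liftHom hl, algebraMap_jmap])

/-- The extension of `B` by the conormal module. -/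
def univExt : Exal.Ext A B P.toExtension.Cotangent where
  E := P.toExtension.Ring ⧸ P.toExtension.ker ^ 2
  proj := (IsScalarTower.toAlgHom A P.toExtension.Ring B).kerSquareLift
  incl :=
    { toFun := fun z => P.toExtension.ker.cotangentToQuotientSquare z.val
      map_zero' := by simp
      map_add' := fun x y => by simp }
  isExtension :=
    { proj_surjective := fun b => by
        obtain ⟨r, hr⟩ := P.toExtension.algebraMap_surjective b
        exact ⟨Ideal.Quotient.mk _ r, hr⟩
      incl_injective := fun x y h =>
        Algebra.Extension.Cotangent.ext (Ideal.cotangentToQuotientSquare_injective _ h)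
      exact := fun z => by
        obtain ⟨r, rfl⟩ := Ideal.Quotient.mk_surjective z
        constructor
        · intro h
          exact ⟨Algebra.Extension.Cotangent.mk ⟨r, h⟩, rfl⟩
        · rintro ⟨w, hw⟩
          obtain ⟨b, rfl⟩ := Algebra.Extension.Cotangent.mk_surjective w
          rw [← hw]
          exact b.2
      mul_incl := fun x z => by
        obtain ⟨r, rfl⟩ := Ideal.Quotient.mk_surjective x
        obtain ⟨b, rfl⟩ := Algebra.Extension.Cotangent.mk_surjective z
        change Ideal.Quotient.mk _ r * Ideal.Quotient.mk _ (b : P.toExtension.Ring) =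
          P.toExtension.ker.cotangentToQuotientSquare (algebraMap P.toExtension.Ring B r •
            Algebra.Extension.Cotangent.mk b).val
        rw [← map_mul, algebraMap_smul, ← map_smul]
        rfl }

/-- If `a` kills the class of the conormal extension then `B` is weakly smooth by `a`. -/
theorem weak_of_smul_classOf {a : A}
    (h : algebraMap A B a • classOf (P := P) (univExt P) = 0) : Weak A B a := by
  let X := univExt P
  let l : ι → X.E := fun i => Ideal.Quotient.mk _ (varX P i)
  have hl : IsLift (P := P) X l := fun i => by
    change algebraMap P.toExtension.Ring B (varX P i) = _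
    rw [algebraMap_toExtension]
    exact MvPolynomial.aeval_X _ i
  have hlm : ∀ r, liftHom l r = Ideal.Quotient.mk _ r := fun r => by
    induction r using ring_induction (P := P) with
    | hC c => rw [AlgHom.commutes]; rfl
    | hadd p q hp hq => rw [map_add, hp, hq]; rfl
    | hmul p i hp =>
      rw [map_mul, hp, show liftHom l (varX P i) = l i from MvPolynomial.aeval_X l i]
      exact (map_mul (Ideal.Quotient.mk (P.toExtension.ker ^ 2)) p (varX P i)).symm
  rw [show classOf X = Submodule.Quotient.mk (coc l hl) from coc_class_eq _ _ (someLift_spec X) hl,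
    ← Submodule.Quotient.mk_smul, Submodule.Quotient.mk_eq_zero] at h
  obtain ⟨χ, hχ⟩ := h
  let Df : P.toExtension.Ring → P.toExtension.Ring ⧸ P.toExtension.ker ^ 2 := fun r =>
    X.incl (χ ((1 : B) ⊗ₜ KaehlerDifferential.D A P.toExtension.Ring r))
  have hadd : ∀ x y, Df (x + y) = Df x + Df y := fun x y => by
    simp only [Df, map_add, TensorProduct.tmul_add]
  have hsmul : ∀ (c : A) x, Df (c • x) = c • Df x := fun c x => by
    simp only [Df]
    rw [Derivation.map_smul, TensorProduct.tmul_smul, ← algebraMap_smul B c, map_smul, ← X.proj.commutes,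
      ← X.isExtension.mul_incl]
    exact (Algebra.smul_def _ _).symm
  have hmul : ∀ p q, Df (p * q) = Ideal.Quotient.mk _ p * Df q + Ideal.Quotient.mk _ q * Df p := fun p q => by
    simp only [Df]
    rw [Derivation.leibniz, TensorProduct.tmul_add, TensorProduct.tmul_smul, TensorProduct.tmul_smul,
      ← algebraMap_smul B p, ← algebraMap_smul B q, map_add, map_smul, map_smul, map_add,
      ← proj_liftHom hl, ← proj_liftHom hl q, ← X.isExtension.mul_incl, ← X.isExtension.mul_incl, hlm, hlm]
  have hker : ∀ r, (IsScalarTower.toAlgHom A P.toExtension.Ring B).kerSquareLift (Df r) = 0 := fun r =>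
    (X.isExtension.exact _).2 ⟨_, rfl⟩
  have hid : ∀ r, algebraMap P.toExtension.Ring B r = 0 → Df r = Ideal.Quotient.mk _ (a • r) := fun r hr => by
    obtain ⟨f, rfl⟩ := (range_jmap P).ge (show r ∈ P.ker from hr)
    have h1 := congrArg X.incl (LinearMap.congr_fun hχ ((1 : B) ⊗ₜ f))
    change X.incl (χ (d1 P _)) = X.incl ((algebraMap A B a • cocFun l hl) _) at h1
    rw [d1_tmul, one_smul, LinearMap.smul_apply, ← X.proj.commutes a, ← X.isExtension.mul_incl, incl_cocFun,
      hlm, ← Algebra.smul_def] at h1
    exact h1
  let q : MvPolynomial ι A →ₐ[A] B := IsScalarTower.toAlgHom A P.toExtension.Ring B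
  let D : Derivation A (MvPolynomial ι A) (MvPolynomial ι A ⧸ RingHom.ker q.toRingHom ^ 2) :=
    Derivation.mk'
      { toFun := Df
        map_add' := hadd
        map_smul' := hsmul }
      hmul
  exact weak_of_univ q P.toExtension.algebraMap_surjective a D hker hid
/-- Weak smoothness by `a` iff `a` kills `T¹` of all finite modules. -/
theorem weak_iff_forall_smul_T1_eq_zero [Algebra.FinitePresentation A B] (a : A) :
    Weak A B a ↔ ∀ (M : Type u) [AddCommGroup M] [Module B M] [Module.Finite B M],
      ∀ x : T1 (canon A B) M, algebraMap A B a • x = 0 := by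
  refine ⟨fun hw M _ _ _ x => hw.smul_T1_eq_zero _ x, fun h => ?_⟩
  let Q := (Algebra.Presentation.ofFinitePresentation A B).reindex Equiv.ulift.{u} Equiv.ulift.{u}
  haveI : Module.Finite Q.toExtension.Ring Q.toExtension.ker := by
    refine Module.Finite.iff_fg.2 ?_
    change Q.toGenerators.ker.FG
    rw [← Q.span_range_relation_eq_ker]
    exact Submodule.fg_span (Set.finite_range _)
  haveI : Module.Finite B Q.toExtension.Cotangent := by
    haveI : Module.Finite Q.toExtension.Ring Q.toExtension.Cotangent :=
      Module.Finite.of_surjective Algebra.Extension.Cotangent.mk Algebra.Extension.Cotangent.mk_surjective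
    exact Module.Finite.of_restrictScalars_finite Q.toExtension.Ring B _
  refine weak_of_smul_classOf Q ?_
  let e := T1equiv (P := canon A B) (P' := Q) Q.toExtension.Cotangent (someHom _ _) (someHom _ _)
  refine e.injective ?_
  rw [map_smul, map_zero]
  exact h _ _

end CotTLib
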